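import Groth.Agent.L14.LocHilb.Tangent
import Groth.Prelude.Def_ClSub2

/-! # Comparison of `O/I` for `I` the ideal of a closed immersion with the pushforward -/

set_option autoImplicit false
set_option linter.style.haveILetI false
set_option linter.unusedSectionVars false
set_option backward.isDefEq.respectTransparency.types false
set_option backward.isDefEq.respectTransparency false

universe u

open CategoryTheory CategoryTheory.Limits AlgebraicGeometry TopologicalSpace Opposite ArtFun ArtFun.Art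

namespace Groth.L14.LocHilb

open Groth.L14.DefLift

variable {X Y : Scheme.{u}} (i : X ⟶ Y)

theorem preimage_le_toImage (U : Y.Opens) : i ⁻¹ᵁ U ≤ i.toImage ⁻¹ᵁ (i.ker.subschemeι ⁻¹ᵁ U) :=
  (congrArg (fun f => f ⁻¹ᵁ U) i.toImage_imageι).ge

/-- The comparison on sections. -/
noncomputable def quotSect (U : Y.Opens) : Γ(i.ker.subscheme, i.ker.subschemeι ⁻¹ᵁ U) →+* Γ(X, i ⁻¹ᵁ U) :=
  (i.toImage.appLE (i.ker.subschemeι ⁻¹ᵁ U) (i ⁻¹ᵁ U) (preimage_le_toImage i U)).hom

theorem quotSect_app (U : Y.Opens) (r : Γ(Y, U)) : quotSect i U (i.ker.subschemeι.app U r) = i.app U r := by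
  have h1 : i.ker.subschemeι.app U ≫ i.toImage.appLE (i.ker.subschemeι ⁻¹ᵁ U) (i ⁻¹ᵁ U) (preimage_le_toImage i U) =
      (i.toImage ≫ i.ker.subschemeι).appLE U (i ⁻¹ᵁ U) (preimage_le_toImage i U) := by
    rw [Scheme.Hom.app_eq_appLE, Scheme.Hom.appLE_comp_appLE]
  refine (ConcreteCategory.congr_hom h1 r).trans ((appLE_congr_hom i.toImage_imageι _ le_rfl r).trans ?_)
  rw [← Scheme.Hom.app_eq_appLE]

theorem quotSect_res {U V : Y.Opens} (hle : V ≤ U) (b : Γ(i.ker.subscheme, i.ker.subschemeι ⁻¹ᵁ U)) :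
    quotSect i V (i.ker.subscheme.presheaf.map (homOfLE (i.ker.subschemeι.preimage_mono hle)).op b) =
      X.presheaf.map (homOfLE (i.preimage_mono hle)).op (quotSect i U b) :=
  (ConcreteCategory.congr_hom (Scheme.Hom.map_appLE i.toImage (preimage_le_toImage i V)
    (homOfLE (i.ker.subschemeι.preimage_mono hle)).op) b).trans
    (ConcreteCategory.congr_hom (Scheme.Hom.appLE_map i.toImage (preimage_le_toImage i U)
      (homOfLE (i.preimage_mono hle)).op) b).symm

/-- `O/I → i_* O_X`. -/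
noncomputable def quotPush : ClSub.quotMod i.ker ⟶ (Scheme.Modules.pushforward i).obj (Coh.structureModule X) :=
  ⟨PresheafOfModules.homMk
    { app := fun U => AddCommGrpCat.ofHom
        (show Γ(i.ker.subscheme, i.ker.subschemeι ⁻¹ᵁ U.unop) →+ Γ(X, i ⁻¹ᵁ U.unop) from
          (quotSect i U.unop).toAddMonoidHom)
      naturality := fun U V f => by
        ext b
        exact quotSect_res i f.unop.le b }
    (fun U r b => by
      refine (map_mul (quotSect i U.unop) (i.ker.subschemeι.app U.unop r) b).trans ?_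
      rw [quotSect_app]
      rfl)⟩

theorem quotPush_app (U : Y.Opens) (b : Γ(i.ker.subscheme, i.ker.subschemeι ⁻¹ᵁ U)) :
    (quotPush i).app U b = quotSect i U b := rfl

instance isIso_quotPush [IsClosedImmersion i] : IsIso (quotPush i) := by
  refine Scheme.Modules.Hom.isIso_iff_isIso_app.2 fun U => (ConcreteCategory.isIso_iff_bijective _).2 ?_
  show Function.Bijective (quotSect i U)
  have e : i.toImage ⁻¹ᵁ (i.ker.subschemeι ⁻¹ᵁ U) = i ⁻¹ᵁ U := by
    have e0 := congrArg (fun f : X ⟶ Y => f ⁻¹ᵁ U) i.toImage_imageι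
    exact e0
  have h : Function.Bijective (i.toImage.app (i.ker.subschemeι ⁻¹ᵁ U)) := ConcreteCategory.bijective_of_isIso _
  haveI : IsIso (homOfLE (preimage_le_toImage i U)) := ⟨homOfLE e.le, Subsingleton.elim _ _, Subsingleton.elim _ _⟩
  exact (ConcreteCategory.bijective_of_isIso (X.presheaf.map (homOfLE (preimage_le_toImage i U)).op)).comp h

variable {k : Type u} [Field k] (y : Y ⟶ specPt k) (x : X ⟶ specPt k) (hi : i ≫ y = x)

include hi in
theorem mulQ_quotPush (c : k) :
    mulQ (x := y) (I₀ := i.ker) c ≫ quotPush i =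
      quotPush i ≫ (Scheme.Modules.pushforward i).map (Formal.smulModΓ (Coh.structureModule X) (Coh.toGlobal x c)) := by
  refine Scheme.Modules.hom_ext _ _ fun U => ?_
  refine ConcreteCategory.hom_ext _ _ fun b => ?_
  refine (congrArg ((quotPush i).app U) (mulQ_app c U b)).trans ?_
  refine Eq.trans ?_ (KLin.smulModΓ_app_apply (Coh.structureModule X) (Coh.toGlobal x c) (i ⁻¹ᵁ U) (quotSect i U b)).symm
  show quotSect i U (cst (x := y) (i.ker.subschemeι ⁻¹ᵁ U) c * _) = _
  rw [map_mul]
  refine congrArg (· * _) ?_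
  let t := (Scheme.ΓSpecIso (CommRingCat.of k)).inv c
  have h1 : (subOver y i.ker).appLE ⊤ (i.ker.subschemeι ⁻¹ᵁ U) le_top ≫
      i.toImage.appLE (i.ker.subschemeι ⁻¹ᵁ U) (i ⁻¹ᵁ U) (preimage_le_toImage i U) =
      (i.toImage ≫ subOver y i.ker).appLE ⊤ (i ⁻¹ᵁ U) le_top := Scheme.Hom.appLE_comp_appLE _ _ _ _ _ _ _
  refine (ConcreteCategory.congr_hom h1 t).trans
    ((appLE_congr_hom (show i.toImage ≫ subOver y i.ker = x by rw [subOver, Scheme.Hom.toImage_imageι_assoc, hi]) _ le_top t).trans ?_)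
  rfl

end Groth.L14.LocHilb
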