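import Groth.Agent.L14.DefLift.AutDer
import Groth.Prelude.Def_ArtFun6

/-! # Embedded deformations as deformations with a morphism, and gluing -/

set_option autoImplicit false
set_option linter.style.haveILetI false
set_option linter.unusedSectionVars false
set_option backward.isDefEq.respectTransparency.types false
set_option backward.isDefEq.respectTransparency false

universe u

open CategoryTheory CategoryTheory.Limits AlgebraicGeometry ArtFun ArtFun.Art

namespace Groth.L14.LocHilb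

open Groth.L14.DefLift

variable {k : Type u} [Field k] {X : Scheme.{u}} {x : X ⟶ specPt k} {I₀ : X.IdealSheafData}

/-- The kernel of a base change of a closed immersion. -/
theorem ker_comap {Z Y P Q : Scheme.{u}} {a : P ⟶ Z} {b : P ⟶ Q} {f : Z ⟶ Y} {J : Q ⟶ Y} [IsClosedImmersion J]
    (h : IsPullback a b f J) : J.ker.comap f = a.ker := by
  have h' : IsPullback a (b ≫ J.toImage) f J.ker.subschemeι :=
    h.of_iso (Iso.refl _) (Iso.refl _) (asIso J.toImage) (Iso.refl _) (by simp) (by simp) (by simp)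
      (by simp [Scheme.Hom.toImage_imageι])
  rw [← h'.isoPullback_hom_fst, Scheme.Hom.ker_comp_of_isIso]
  rfl

section Closed

variable {A : Art k k} {W : Scheme.{u}} (q : W ⟶ spec A) {Y : Scheme.{u}} {y : Y ⟶ specPt k}

/-- A morphism from a deformation which is a closed immersion on the closed fibre is a closed immersion. -/
theorem isClosedImmersion_of_fibre (ξ : DefSch Y y A) (J : ξ.total ⟶ W) (hJ : J ≫ q = ξ.f)
    [IsClosedImmersion (ξ.i ≫ J)] : IsClosedImmersion J := by
  rw [isClosedImmersion_iff_isAffineHom]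
  have haff : ∀ V : W.Opens, IsAffineOpen V → IsAffineOpen (J ⁻¹ᵁ V) := fun V hV =>
    isAffineOpen_of_preimage ξ (hV.preimage (ξ.i ≫ J))
  refine ⟨⟨haff⟩, fun V hV => ?_⟩
  set T := J ⁻¹ᵁ V
  letI : Algebra A Γ(ξ.total, T) := (baseS ξ T).toAlgebra
  have hU : IsAffineOpen (ξ.i ⁻¹ᵁ T) := hV.preimage (ξ.i ≫ J)
  obtain ⟨-, -, hker⟩ := chart ξ (haff V hV) hU rfl
  let bW : A →+* Γ(W, V) := ((Scheme.ΓSpecIso (CommRingCat.of A)).inv ≫ q.appLE ⊤ V le_top).hom
  have hb : ∀ a, J.app V (bW a) = baseS ξ T a := fun a => by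
    have h1 : q.appLE ⊤ V le_top ≫ J.appLE V T le_rfl = (J ≫ q).appLE ⊤ T le_top :=
      Scheme.Hom.appLE_comp_appLE _ _ _ _ _ _ _
    rw [Scheme.Hom.app_eq_appLE]
    exact (ConcreteCategory.congr_hom h1 _).trans (appLE_congr_hom hJ _ le_top _)
  let S : Submodule A Γ(ξ.total, T) :=
    { carrier := Set.range (J.app V)
      add_mem' := by
        rintro _ _ ⟨r, rfl⟩ ⟨r', rfl⟩
        exact ⟨r + r', map_add _ r r'⟩
      zero_mem' := ⟨0, map_zero _⟩
      smul_mem' := by
        rintro a _ ⟨r, rfl⟩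
        exact ⟨bW a * r, by rw [map_mul, hb]; rfl⟩ }
  have hm : IsNilpotent (IsLocalRing.maximalIdeal A) := by
    rw [← IsLocalRing.jacobson_eq_maximalIdeal ⊥ bot_ne_top]
    exact IsArtinianRing.isNilpotent_jacobson_bot
  intro t
  refine (le_of_nilpotent hm (N := ⊤) (S := S) fun t _ => ?_) (Submodule.mem_top (x := t))
  obtain ⟨r, hr⟩ := Scheme.Hom.app_surjective (ξ.i ≫ J) V hV (ξ.i.app T t)
  refine Submodule.mem_sup.mpr ⟨J.app V r, ⟨r, rfl⟩, t - J.app V r, ?_, add_sub_cancel _ _⟩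
  rw [Ideal.smul_top_eq_map, Submodule.restrictScalars_mem]
  refine (hker _).mp ?_
  rw [← Scheme.Hom.app_eq_appLE, map_sub, sub_eq_zero]
  exact hr.symm

end Closed

/-- The map into `X ×_k Spec A` of a deformation with a morphism to `X`. -/
noncomputable def toXA {A : Art k k} (ξ : DefSch I₀.subscheme (subOver x I₀) A) (g : ξ.total ⟶ X)
    (hg : g ≫ x = ξ.f ≫ specOver A) : ξ.total ⟶ XA x A := pullback.lift g ξ.f hg

section Obj

variable {A : Art k k} (ξ : DefSch I₀.subscheme (subOver x I₀) A) (J : ξ.total ⟶ XA x A) (hJ : J ≫ XApr x A = ξ.f)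
  (hi : ξ.i ≫ J = I₀.subschemeι ≫ XAincl x A)

include hJ hi in
theorem isClosedImmersion_emb : IsClosedImmersion J := by
  haveI : IsClosedImmersion (XAincl x A) := by
    haveI : IsClosedImmersion (specRes A) := IsClosedImmersion.spec_of_surjective _ A.res_surjective
    exact MorphismProperty.of_isPullback (P := @IsClosedImmersion.{u}) (isPullback_XAincl x A).flip inferInstance
  haveI : IsClosedImmersion (ξ.i ≫ J) := by rw [hi]; infer_instance
  exact isClosedImmersion_of_fibre (XApr x A) ξ J hJ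

include hJ in
theorem flatOver_ker [IsClosedImmersion J] : FlatOver X x A J.ker := by
  unfold FlatOver
  refine (MorphismProperty.cancel_left_of_respectsIso @Flat J.toImage _).mp ?_
  rw [← Category.assoc, Scheme.Hom.toImage_imageι, hJ]
  exact ξ.flat

include hJ hi in
theorem comap_ker [IsClosedImmersion J] : J.ker.comap (XAincl x A) = I₀ := by
  have h : IsPullback I₀.subschemeι ξ.i (XAincl x A) J :=
    (IsPullback.of_bot (by rw [hJ]; exact ξ.isPullback) hi (isPullback_XAincl x A)).flip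
  rw [ker_comap h, Scheme.IdealSheafData.ker_subschemeι]

/-- The embedded deformation of a morphism. -/
noncomputable def emb : (localHilb X x I₀).obj A :=
  haveI := isClosedImmersion_emb ξ J hJ hi
  ⟨J.ker, flatOver_ker ξ J hJ, comap_ker ξ J hJ hi⟩

end Obj

variable {B A : Art k k}

/-- Base change of embedded deformations given by morphisms. -/
theorem map_emb (μ : B ⟶ A) {ξ : DefSch I₀.subscheme (subOver x I₀) B} {J : ξ.total ⟶ XA x B}
    {hJ : J ≫ XApr x B = ξ.f} {hi : ξ.i ≫ J = I₀.subschemeι ≫ XAincl x B}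
    {ξ' : DefSch I₀.subscheme (subOver x I₀) A} {J' : ξ'.total ⟶ XA x A}
    {hJ' : J' ≫ XApr x A = ξ'.f} {hi' : ξ'.i ≫ J' = I₀.subschemeι ≫ XAincl x A}
    {c : ξ'.total ⟶ ξ.total} (hc : c ≫ ξ.f = ξ'.f ≫ specMap μ) (hci : ξ'.i ≫ c = ξ.i)
    (hcJ : c ≫ J = J' ≫ XAmap x μ) :
    (localHilb X x I₀).map μ (emb ξ J hJ hi) = emb ξ' J' hJ' hi' := by
  haveI := isClosedImmersion_emb ξ J hJ hi
  refine Subtype.ext ?_
  show J.ker.comap (XAmap x μ) = J'.ker
  exact ker_comap (IsPullback.of_bot (by rw [hJ, hJ']; exact isPullback_over hc hci) hcJ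
    (isPullback_XAmap x μ)).flip

/-- The canonical morphism of an embedded deformation. -/
noncomputable abbrev ι' (I : (localHilb X x I₀).obj A) : (objectOf I).total ⟶ XA x A := I.1.subschemeι

theorem emb_objectOf (I : (localHilb X x I₀).obj A) : emb (objectOf I) (ι' I) rfl (objectOf_i_compat I) = I :=
  Subtype.ext (Scheme.IdealSheafData.ker_subschemeι I.1)

theorem exists_over (μ : B ⟶ A) {I : (localHilb X x I₀).obj B} {I' : (localHilb X x I₀).obj A}
    (h : (localHilb X x I₀).map μ I = I') :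
    ∃ c : (objectOf I').total ⟶ (objectOf I).total, c ≫ (objectOf I).f = (objectOf I').f ≫ specMap μ ∧
      (objectOf I').i ≫ c = (objectOf I).i ∧ c ≫ ι' I = ι' I' ≫ XAmap x μ := by
  subst h
  let c : (objectOf ((localHilb X x I₀).map μ I)).total ⟶ (objectOf I).total :=
    (I.1.comapIso (XAmap x μ)).hom ≫ pullback.snd _ _
  have hc : c ≫ ι' I = ι' ((localHilb X x I₀).map μ I) ≫ XAmap x μ := by
    show ((I.1.comapIso (XAmap x μ)).hom ≫ pullback.snd _ _) ≫ I.1.subschemeι = _
    rw [Category.assoc, ← pullback.condition, Scheme.IdealSheafData.comapIso_hom_fst_assoc]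
    rfl
  refine ⟨c, ?_, ?_, hc⟩
  · show c ≫ I.1.subschemeι ≫ XApr x B = (ι' _ ≫ XApr x A) ≫ specMap μ
    rw [reassoc_of% hc, XAmap_snd, Category.assoc]
  · refine (cancel_mono I.1.subschemeι).mp ?_
    rw [Category.assoc, hc, ← Category.assoc, objectOf_i_compat, Category.assoc, XAincl_XAmap]
    exact (objectOf_i_compat I).symm

variable {A' A'' : Art k k} {p' : B ⟶ A'} {p'' : B ⟶ A''} {f' : A' ⟶ A} {f'' : A'' ⟶ A}

theorem bijective_cmp (hfp : IsFibreProd p' p'' f' f'') (hs : Function.Surjective f'') :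
    Function.Bijective (cmp (localHilb X x I₀) hfp) := by
  have hXA : XAmap x f' ≫ XAmap x p' = XAmap x f'' ≫ XAmap x p'' := by
    rw [← XAmap_comp, ← XAmap_comp, hfp.w]
  constructor
  · intro I K e
    set I' := (localHilb X x I₀).map p' I with hI'
    set I'' := (localHilb X x I₀).map p'' I with hI''
    set I₁ := (localHilb X x I₀).map f' I' with hI₁
    have hI₁' : (localHilb X x I₀).map f'' I'' = I₁ := ((cmp (localHilb X x I₀) hfp I).2).symm
    obtain ⟨c', hc', hci', hcι'⟩ := exists_over f' hI₁.symm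
    obtain ⟨c'', hc'', hci'', hcι''⟩ := exists_over f'' hI₁'
    obtain ⟨η, b, a, hb, ha, hab, hdesc, hext⟩ := exists_sglue' hfp hs hc' hci' hc'' hci''
    have key : ∀ L : (localHilb X x I₀).obj B, (localHilb X x I₀).map p' L = I' →
        (localHilb X x I₀).map p'' L = I'' →
        ∃ J : η.total ⟶ XA x B, J.ker = L.1 ∧ b ≫ J = ι' I' ≫ XAmap x p' ∧ a ≫ J = ι' I'' ≫ XAmap x p'' := by
      intro L h' h''
      obtain ⟨s', hs', hsi', hsι'⟩ := exists_over p' h'
      obtain ⟨s'', hs'', hsi'', hsι''⟩ := exists_over p'' h''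
      obtain ⟨H, hHb, hHa⟩ := hdesc s' s'' ((cancel_mono L.1.subschemeι).mp (by
        rw [Category.assoc, Category.assoc, hsι', hsι'', reassoc_of% hcι', reassoc_of% hcι'', hXA]))
      haveI : IsIso H := isIso_of_hom (ξ₁ := η) (ξ₂ := objectOf L) H
        (hext _ _ (by rw [reassoc_of% hHb, hs', hb.1]) (by rw [reassoc_of% hHa, hs'', ha.1]))
        (by rw [← hb.2, Category.assoc, hHb, hsi'])
      refine ⟨H ≫ ι' L, ?_, by rw [reassoc_of% hHb, hsι'], by rw [reassoc_of% hHa, hsι'']⟩
      rw [Scheme.Hom.ker_comp_of_isIso]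
      exact Scheme.IdealSheafData.ker_subschemeι L.1
    obtain ⟨J₁, h1, hb1, ha1⟩ := key I hI'.symm hI''.symm
    obtain ⟨J₂, h2, hb2, ha2⟩ := key K (congrArg (fun t => t.1.1) e).symm (congrArg (fun t => t.1.2) e).symm
    refine Subtype.ext ?_
    rw [← h1, ← h2, hext J₁ J₂ (hb1.trans hb2.symm) (ha1.trans ha2.symm)]
  · rintro ⟨⟨I', I''⟩, h⟩
    obtain ⟨c', hc', hci', hcι'⟩ := exists_over f' (rfl : (localHilb X x I₀).map f' I' = _)
    obtain ⟨c'', hc'', hci'', hcι''⟩ := exists_over f'' h.symm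
    obtain ⟨η, b, a, hb, ha, hab, hdesc, hext⟩ := exists_sglue' hfp hs hc' hci' hc'' hci''
    obtain ⟨G, hGb, hGa⟩ := hdesc (ι' I' ≫ XAmap x p') (ι' I'' ≫ XAmap x p'') (by
      rw [reassoc_of% hcι', reassoc_of% hcι'', hXA])
    have hG : G ≫ XApr x B = η.f := by
      refine hext _ _ ?_ ?_
      · rw [reassoc_of% hGb, XAmap_snd, hb.1, ← Category.assoc]
        rfl
      · rw [reassoc_of% hGa, XAmap_snd, ha.1, ← Category.assoc]
        rfl
    have hGi : η.i ≫ G = I₀.subschemeι ≫ XAincl x B := by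
      rw [← hb.2, Category.assoc, hGb, ← Category.assoc, objectOf_i_compat, Category.assoc, XAincl_XAmap]
    refine ⟨emb η G hG hGi, FibProd.ext ?_ ?_⟩
    · exact (map_emb p' hb.1 hb.2 (J' := ι' I') (hJ' := rfl) (hi' := objectOf_i_compat I') hGb).trans
        (emb_objectOf I')
    · exact (map_emb p'' ha.1 ha.2 (J' := ι' I'') (hJ' := rfl) (hi' := objectOf_i_compat I'') hGa).trans
        (emb_objectOf I'')

theorem h0 (hY : Flat (I₀.subschemeι ≫ x)) : H0 (localHilb X x I₀) := by
  haveI : IsIso (XAincl x (Art.base k k)) :=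
    (isPullback_XAincl x (Art.base k k)).isIso_fst_of_isIso
  refine ⟨⟨emb (DefSch.self I₀.subscheme (subOver x I₀) hY) (I₀.subschemeι ≫ XAincl x (Art.base k k)) ?_ ?_⟩,
    ⟨fun I K => Subtype.ext ?_⟩⟩
  · rw [Category.assoc, XAincl_snd]
    show I₀.subschemeι ≫ x ≫ specRes (Art.base k k) = I₀.subschemeι ≫ x
    rw [comp_specRes_base]
  · exact Category.id_comp _
  · have h : ∀ L : (localHilb X x I₀).obj (Art.base k k), L.1 = I₀.comap (inv (XAincl x (Art.base k k))) := fun L =>
      (show L.1 = (L.1.comap (XAincl x (Art.base k k))).comap (inv (XAincl x (Art.base k k))) by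
        rw [← Scheme.IdealSheafData.comap_comp, IsIso.inv_hom_id, Scheme.IdealSheafData.comap_id]).trans
        (congrArg (fun M => Scheme.IdealSheafData.comap M (inv (XAincl x (Art.base k k)))) L.2.2)
    rw [h I, h K]

end Groth.L14.LocHilb
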