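import Groth.Agent.L14.LocHilb.Tangent
import Groth.Agent.L12.Criteria
import Groth.Agent.L16.ProperFinite
import Groth.Agent.L16.HomSh.Coherent
import Groth.Agent.L16.AffineBC.Pullback
import Groth.Agent.L16.ProjSpace.Basic
import Groth.Agent.L21.RR.Finite
import Groth.Agent.L21.RR.Twist

/-! # Finiteness of the tangent space of the local Hilbert functor of a proper subscheme -/

set_option autoImplicit false
set_option linter.style.haveILetI false
set_option backward.isDefEq.respectTransparency.types false
set_option backward.isDefEq.respectTransparency false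

universe u

open CategoryTheory CategoryTheory.Limits AlgebraicGeometry TopologicalSpace Opposite ArtFun ArtFun.Art

namespace Groth.L14.LocHilb

open Groth.L16.HomSh (homMod globalEquiv isCoh_homMod secEquiv sec_ext)
open Groth.L18.Frame (ro)

variable {k : Type u} [Field k]

theorem globalEquiv_smulModΓ {Y : Scheme.{u}} {M N : Y.Modules} (φ : M ⟶ N) (r : Γ(Y, ⊤)) :
    globalEquiv M N (φ ≫ Formal.smulModΓ N r) = r • globalEquiv M N φ := by
  apply (secEquiv ⊤).injective
  rw [map_smul]
  exact sec_ext fun W h m => KLin.smulModΓ_app_apply N r W (φ.app W m)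

variable {X : Scheme.{u}} {x : X ⟶ specPt k} (I₀ : X.IdealSheafData)

theorem hfin [LocallyOfFiniteType x] [IsProper (I₀.subschemeι ≫ x)] [TangentStr (localHilb X x I₀)] :
    Hfin (localHilb X x I₀) := by
  letI : I₀.subscheme.Over (Spec (CommRingCat.of k)) := ⟨subOver x I₀⟩
  haveI : IsProper (I₀.subscheme ↘ Spec (CommRingCat.of k)) := ‹IsProper (I₀.subschemeι ≫ x)›
  haveI : IsLocallyNoetherian X := LocallyOfFiniteType.isLocallyNoetherian x
  haveI : IsLocallyNoetherian I₀.subscheme := LocallyOfFiniteType.isLocallyNoetherian I₀.subschemeι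
  let adj := Scheme.Modules.pullbackPushforwardAdjunction I₀.subschemeι
  haveI := adj.left_adjoint_additive
  let C := (Scheme.Modules.pullback I₀.subschemeι).obj (ClSub.idealMod I₀)
  let O := Coh.structureModule I₀.subscheme
  have hN : Coh.IsCoh (homMod C O) :=
    isCoh_homMod (Groth.L16.AffineBC.isCoh_pullback _ (Groth.L21.RR.isCoh_idealMod I₀))
      Groth.L16.CohClosedPush.isCoh_structure
  haveI : Module.Finite k (Coh.HH I₀.subscheme (homMod C O) 0) := Groth.L16.ProperFinite.finite_HH k hN 0
  let e := adj.homEquiv (ClSub.idealMod I₀) O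
  let L : (localHilb X x I₀).obj (dual k k) → Coh.HH I₀.subscheme (homMod C O) 0 := fun z =>
    (Groth.L21.RR.e0 _).symm (globalEquiv C O (e.symm (psi z)))
  have hadd : ∀ f g : ClSub.idealMod I₀ ⟶ ClSub.quotMod I₀, e.symm (f + g) = e.symm f + e.symm g := fun f g => by
    simp only [e, Adjunction.homEquiv_counit, Functor.map_add, Preadditive.add_comp]
  let L' : TangentSpace (localHilb X x I₀) →ₗ[k] Coh.HH I₀.subscheme (homMod C O) 0 :=
    { toFun := L
      map_add' := fun a b => by
        obtain ⟨z, h₁, h₂⟩ := Groth.L12.exists_pair (h0 inferInstance)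
          (fun B A' p' p'' hh => bijective_cmp hh (dual k k).res_surjective) a b
        subst h₁ h₂
        refine (congrArg L (TangentStr.add_eq (F := localHilb X x I₀) z)).trans ?_
        show L _ = L _ + L _
        simp only [L, psi_add, hadd, map_add]
      map_smul' := fun c a => by
        refine (congrArg L (TangentStr.smul_eq (F := localHilb X x I₀) c a)).trans ?_
        apply (Groth.L21.RR.e0 _).injective
        rw [RingHom.id_apply, Groth.L21.RR.e0_smul, AddEquiv.apply_symm_apply, AddEquiv.apply_symm_apply]
        refine (congrArg (globalEquiv C O) ?_).trans (globalEquiv_smulModΓ (e.symm (psi a)) _)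
        rw [psi_scale]
        exact adj.homEquiv_naturality_right_symm (psi a) _ }
  have hL : Function.Injective L' := fun a b h =>
    psi_injective (e.symm.injective ((globalEquiv C O).injective ((Groth.L21.RR.e0 _).symm.injective h)))
  exact Module.Finite.of_injective L' hL

theorem isProrep_of_proper [LocallyOfFiniteType x] [IsProper (I₀.subschemeι ≫ x)] :
    IsProrepresentable (localHilb X x I₀) := by
  have hh0 : H0 (localHilb X x I₀) := h0 inferInstance
  have hh2 : Heps (localHilb X x I₀) := fun B A' p' p'' hh => bijective_cmp hh (dual k k).res_surjective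
  obtain ⟨T⟩ := Groth.L12.nonempty_tangentStr hh0 hh2
  letI := T
  haveI : Module.Finite k k := inferInstance
  refine Groth.L12.prorep_iff.mpr ⟨⟨hh0, fun B A A' A'' p' p'' f' f'' hh hs => bijective_cmp hh hs⟩, hfin I₀, fun x₀ => ?_⟩
  exact Groth.L12.der_injective_of_subsingleton (Groth.L12.subsingleton_derivation_of_surjective Function.surjective_id) _ x₀

end Groth.L14.LocHilb
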