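import Groth.Agent.L14.LocHilb.Val
import Groth.Prelude.Def_KLin

/-! # The tangent space of the local Hilbert functor inside `Hom(I₀, O/I₀)` -/

set_option autoImplicit false
set_option linter.style.haveILetI false
set_option linter.unusedSectionVars false
set_option backward.isDefEq.respectTransparency.types false
set_option backward.isDefEq.respectTransparency false

universe u

open CategoryTheory CategoryTheory.Limits AlgebraicGeometry TopologicalSpace Opposite ArtFun ArtFun.Art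

namespace Groth.L14.LocHilb

open Groth.L14.DefLift
open Groth.L18.Frame (rs ro ro_ro ro_self)

variable {k : Type u} [Field k]

/-- The generators of the maximal ideal of `k[ε₁, ε₂]`. -/
def e₁ : dual2 k k := (TrivSqZeroExt.inr (1, 0) : TrivSqZeroExt k (k × k))

/-- See `e₁`. -/
def e₂ : dual2 k k := (TrivSqZeroExt.inr (0, 1) : TrivSqZeroExt k (k × k))

theorem maximalIdeal_dual2_le : IsLocalRing.maximalIdeal (dual2 k k) ≤ Ideal.span {e₁, e₂} := by
  intro a ha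
  have ha0 : TrivSqZeroExt.fst (show TrivSqZeroExt k (k × k) from a) = 0 := ((dual2 k k).mem_maximalIdeal_iff a).mp ha
  refine Ideal.mem_span_pair.mpr
    ⟨(TrivSqZeroExt.inl (TrivSqZeroExt.snd (show TrivSqZeroExt k (k × k) from a)).1 : TrivSqZeroExt k (k × k)),
      (TrivSqZeroExt.inl (TrivSqZeroExt.snd (show TrivSqZeroExt k (k × k) from a)).2 : TrivSqZeroExt k (k × k)), ?_⟩
  refine TrivSqZeroExt.ext ?_ ?_
  · show TrivSqZeroExt.fst ((TrivSqZeroExt.inl _ : TrivSqZeroExt k (k × k)) * TrivSqZeroExt.inr (1, 0) +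
      TrivSqZeroExt.inl _ * TrivSqZeroExt.inr (0, 1)) = _
    rw [TrivSqZeroExt.fst_add, TrivSqZeroExt.fst_mul, TrivSqZeroExt.fst_mul, TrivSqZeroExt.fst_inr,
      TrivSqZeroExt.fst_inr, mul_zero, mul_zero, add_zero]
    exact ha0.symm
  · show TrivSqZeroExt.snd ((TrivSqZeroExt.inl _ : TrivSqZeroExt k (k × k)) * TrivSqZeroExt.inr (1, 0)) +
      TrivSqZeroExt.snd ((TrivSqZeroExt.inl _ : TrivSqZeroExt k (k × k)) * TrivSqZeroExt.inr (0, 1)) = _
    rw [TrivSqZeroExt.inl_mul_inr, TrivSqZeroExt.inl_mul_inr, TrivSqZeroExt.snd_inr, TrivSqZeroExt.snd_inr]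
    refine Prod.ext ?_ ?_
    · show _ * (1 : k) + _ * (0 : k) = _
      rw [mul_one, mul_zero, add_zero]
    · show _ * (0 : k) + _ * (1 : k) = _
      rw [mul_one, mul_zero, zero_add]

variable {X : Scheme.{u}} {x : X ⟶ specPt k} {I₀ : X.IdealSheafData}

/-- Constants on the closed subscheme. -/
noncomputable def cst (W : I₀.subscheme.Opens) (c : k) : Γ(I₀.subscheme, W) :=
  (subOver x I₀).appLE ⊤ W le_top ((Scheme.ΓSpecIso (CommRingCat.of k)).inv c)

theorem red_baseS {A : Art k k} (I : (localHilb X x I₀).obj A) (U : X.Opens) (a : A) :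
    red I U (baseS (objectOf I) (gOf I ⁻¹ᵁ U) a) = cst (x := x) (I₀.subschemeι ⁻¹ᵁ U) (A.res a) :=
  appLE_baseS (objectOf I) _ a

set_option maxHeartbeats 400000 in
theorem val_map {A : Art k k} (μ : A ⟶ dual k k) (I : (localHilb X x I₀).obj A) (U : X.affineOpens)
    (s : Γ(ClSub.idealMod I₀, U.1)) {a₁ a₂ : A} {c₁ c₂ : k} (h₁ : μ a₁ = algebraMap k (dual k k) c₁ * eps)
    (h₂ : μ a₂ = algebraMap k (dual k k) c₂ * eps) {r₁ r₂ : Γ((objectOf I).total, gOf I ⁻¹ᵁ U.1)}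
    (hr : (gOf I).app U.1 (OmegaSh.idealSect I₀ U.1 s) =
      baseS (objectOf I) (gOf I ⁻¹ᵁ U.1) a₁ * r₁ + baseS (objectOf I) (gOf I ⁻¹ᵁ U.1) a₂ * r₂) :
    (show Γ(I₀.subscheme, I₀.subschemeι ⁻¹ᵁ U.1) from (psi ((localHilb X x I₀).map μ I)).app U.1 s) =
      cst (x := x) (I₀.subschemeι ⁻¹ᵁ U.1) c₁ * red I U.1 r₁ + cst (x := x) (I₀.subschemeι ⁻¹ᵁ U.1) c₂ * red I U.1 r₂ := by
  obtain ⟨K, hK⟩ : ∃ K, (localHilb X x I₀).map μ I = K := ⟨_, rfl⟩
  obtain ⟨c, hc, hci, hcι⟩ := exists_over μ hK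
  rw [hK]
  have hcg : c ≫ gOf I = gOf K := by
    show c ≫ ι' I ≫ pullback.fst x (specOver A) = _
    rw [reassoc_of% hcι, XAmap_fst]
  have hle : gOf K ⁻¹ᵁ U.1 ≤ c ⁻¹ᵁ (gOf I ⁻¹ᵁ U.1) := by
    rw [← Scheme.Hom.comp_preimage, hcg]
  let cV := (c.appLE (gOf I ⁻¹ᵁ U.1) (gOf K ⁻¹ᵁ U.1) hle).hom
  have hcred : ∀ z, red K U.1 (cV z) = red I U.1 z := fun z => by
    have h1 : c.appLE (gOf I ⁻¹ᵁ U.1) (gOf K ⁻¹ᵁ U.1) hle ≫
        (objectOf K).i.appLE (gOf K ⁻¹ᵁ U.1) (I₀.subschemeι ⁻¹ᵁ U.1) (preimage_gOf K U.1).ge =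
        ((objectOf K).i ≫ c).appLE (gOf I ⁻¹ᵁ U.1) (I₀.subschemeι ⁻¹ᵁ U.1)
          (((preimage_gOf K U.1).ge).trans ((objectOf K).i.preimage_mono hle)) :=
      Scheme.Hom.appLE_comp_appLE _ _ _ _ _ _ _
    exact (ConcreteCategory.congr_hom h1 z).trans (appLE_congr_hom hci _ (preimage_gOf I U.1).ge z)
  have hcg' : ∀ f, cV ((gOf I).app U.1 f) = (gOf K).app U.1 f := fun f => by
    have h1 : (gOf I).app U.1 ≫ c.appLE (gOf I ⁻¹ᵁ U.1) (gOf K ⁻¹ᵁ U.1) hle =
        (c ≫ gOf I).appLE U.1 (gOf K ⁻¹ᵁ U.1) hle := by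
      rw [Scheme.Hom.app_eq_appLE, Scheme.Hom.appLE_comp_appLE]
    refine (ConcreteCategory.congr_hom h1 f).trans ((appLE_congr_hom hcg _ le_rfl f).trans ?_)
    rw [← Scheme.Hom.app_eq_appLE]
  have hb : ∀ a, cV (baseS (objectOf I) (gOf I ⁻¹ᵁ U.1) a) = baseS (objectOf K) (gOf K ⁻¹ᵁ U.1) (μ a) :=
    fun a => appLE_baseS_map (objectOf I) hc hle a
  rw [← psi_spec K U s (baseS (objectOf K) (gOf K ⁻¹ᵁ U.1) (algebraMap k (dual k k) c₁) * cV r₁ +
    baseS (objectOf K) (gOf K ⁻¹ᵁ U.1) (algebraMap k (dual k k) c₂) * cV r₂) ?_]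
  · rw [map_add, map_mul, map_mul, hcred, hcred, red_baseS, red_baseS, (dual k k).res.commutes,
      (dual k k).res.commutes]
    rfl
  · rw [← hcg', hr, map_add, map_mul, map_mul, hb, hb, h₁, h₂, map_mul, map_mul]
    ring

/-- Multiplication by a constant on `O/I₀`. -/
noncomputable def mulQ (c : k) : ClSub.quotMod I₀ ⟶ ClSub.quotMod I₀ :=
  (Scheme.Modules.pushforward I₀.subschemeι).map
    (Formal.smulModΓ (Coh.structureModule I₀.subscheme) (Coh.toGlobal (subOver x I₀) c))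

theorem mulQ_app (c : k) (U : X.Opens) (b : Γ(ClSub.quotMod I₀, U)) :
    (mulQ (x := x) (I₀ := I₀) c).app U b =
      (show Γ(ClSub.quotMod I₀, U) from
        cst (x := x) (I₀.subschemeι ⁻¹ᵁ U) c * (show Γ(I₀.subscheme, I₀.subschemeι ⁻¹ᵁ U) from b)) :=
  KLin.smulModΓ_app_apply (Coh.structureModule I₀.subscheme) (Coh.toGlobal (subOver x I₀) c)
    (I₀.subschemeι ⁻¹ᵁ U) b

theorem psi_scale (c : k) (I : (localHilb X x I₀).obj (dual k k)) :
    psi ((localHilb X x I₀).map (scale c) I) = psi I ≫ mulQ (x := x) c := by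
  refine Groth.L16.AffineBC.hom_ext_affine _ _ fun U hU s => ?_
  obtain ⟨r, hr⟩ := exists_repr I ⟨U, hU⟩ (ideal_mem_app_zero U s)
  have hsc : (scale c : dual k k ⟶ dual k k) eps = algebraMap k (dual k k) c * eps := by
    refine TrivSqZeroExt.ext ?_ ?_
    · show (0 : k) = TrivSqZeroExt.fst ((TrivSqZeroExt.inl c : DualNumber k) * DualNumber.eps)
      simp
    · show c • (1 : k) = TrivSqZeroExt.snd ((TrivSqZeroExt.inl c : DualNumber k) * DualNumber.eps)
      simp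
  refine (val_map (scale c) I ⟨U, hU⟩ s hsc (a₂ := 0) (c₂ := 0) (by rw [map_zero, map_zero, zero_mul])
    (r₁ := r) (r₂ := 0) (by rw [mul_zero, add_zero]; exact hr)).trans ?_
  rw [map_zero, mul_zero, add_zero, psi_spec I ⟨U, hU⟩ s r hr]
  exact (mulQ_app c U _).symm

theorem psi_add (z : (localHilb X x I₀).obj (dual2 k k)) :
    psi ((localHilb X x I₀).map plus z) = psi ((localHilb X x I₀).map pr₁ z) + psi ((localHilb X x I₀).map pr₂ z) := by
  refine Groth.L16.AffineBC.hom_ext_affine _ _ fun U hU s => ?_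
  let V := gOf z ⁻¹ᵁ U
  have h0 : red z U ((gOf z).app U (OmegaSh.idealSect I₀ U s)) = 0 :=
    (red_gOf z U _).trans (ideal_mem_app_zero U s)
  have h1 := ((chart (objectOf z) (isAffine_gOf z ⟨U, hU⟩) (hU.preimage I₀.subschemeι) (preimage_gOf z U)).2.2 _).mp h0
  have h2 := Ideal.map_mono (f := baseS (objectOf z) V) maximalIdeal_dual2_le h1
  rw [Ideal.map_span, Set.image_pair, Ideal.mem_span_pair] at h2
  obtain ⟨r₁, r₂, hr⟩ := h2
  rw [mul_comm r₁, mul_comm r₂] at hr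
  have h01 : algebraMap k (dual k k) 1 * eps = (eps : dual k k) := by rw [map_one, one_mul]
  have h00 : algebraMap k (dual k k) 0 * eps = (0 : dual k k) := by rw [map_zero, zero_mul]
  have a1 : (pr₁ : dual2 k k ⟶ dual k k) e₁ = algebraMap k (dual k k) 1 * eps := by
    rw [h01]; exact TrivSqZeroExt.ext rfl rfl
  have a2 : (pr₁ : dual2 k k ⟶ dual k k) e₂ = algebraMap k (dual k k) 0 * eps := by
    rw [h00]; exact TrivSqZeroExt.ext rfl rfl
  have b1 : (pr₂ : dual2 k k ⟶ dual k k) e₁ = algebraMap k (dual k k) 0 * eps := by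
    rw [h00]; exact TrivSqZeroExt.ext rfl rfl
  have b2 : (pr₂ : dual2 k k ⟶ dual k k) e₂ = algebraMap k (dual k k) 1 * eps := by
    rw [h01]; exact TrivSqZeroExt.ext rfl rfl
  have c1 : (plus : dual2 k k ⟶ dual k k) e₁ = algebraMap k (dual k k) 1 * eps := by
    rw [h01]; exact TrivSqZeroExt.ext rfl (add_zero (1 : k))
  have c2 : (plus : dual2 k k ⟶ dual k k) e₂ = algebraMap k (dual k k) 1 * eps := by
    rw [h01]; exact TrivSqZeroExt.ext rfl (zero_add (1 : k))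
  have e := val_map plus z ⟨U, hU⟩ s c1 c2 hr.symm
  have e' := val_map pr₁ z ⟨U, hU⟩ s a1 a2 hr.symm
  have e'' := val_map pr₂ z ⟨U, hU⟩ s b1 b2 hr.symm
  refine e.trans (Eq.trans ?_ (congrArg₂ (· + ·) e'.symm e''.symm))
  have hc0 : cst (x := x) (I₀.subschemeι ⁻¹ᵁ U) (0 : k) = 0 := by rw [cst, map_zero, map_zero]
  rw [hc0, zero_mul, zero_mul, add_zero, zero_add]

/-- `X ×_k Spec A` as a deformation of `X`. -/
noncomputable def trivXA (A : Art k k) : DefSch X x A where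
  total := XA x A
  f := XApr x A
  flat := inferInstance
  i := XAincl x A
  isPullback := isPullback_XAincl x A

theorem psi_injective : Function.Injective (psi : (localHilb X x I₀).obj (dual k k) → _) := by
  intro I K h
  let ξ := trivXA (x := x) (dual k k)
  let p : ξ.total ⟶ X := pullback.fst x (specOver (dual k k))
  haveI : IsAffineHom p := MorphismProperty.pullback_fst (P := @IsAffineHom) _ _ inferInstance
  refine Subtype.ext (Scheme.IdealSheafData.ext_of_iSup_eq_top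
    (fun U : X.affineOpens => ⟨p ⁻¹ᵁ U.1, U.2.preimage p⟩) ?_ fun U => ?_)
  · rw [← Scheme.Hom.preimage_iSup, iSup_affineOpens_eq_top, Scheme.Hom.preimage_top]
  let V : ξ.total.Opens := p ⁻¹ᵁ U.1
  have hV : IsAffineOpen V := U.2.preimage p
  have e : ξ.i ⁻¹ᵁ V = U.1 := by
    show (XAincl x (dual k k)) ⁻¹ᵁ (p ⁻¹ᵁ U.1) = U.1
    rw [← Scheme.Hom.comp_preimage, XAincl_fst]
    rfl
  have hip : ∀ a, ξ.i.appLE V U.1 e.ge (p.app U.1 a) = a := fun a => by
    have h1 : p.app U.1 ≫ ξ.i.appLE V U.1 e.ge = (ξ.i ≫ p).appLE U.1 U.1 e.ge := by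
      rw [Scheme.Hom.app_eq_appLE, Scheme.Hom.appLE_comp_appLE]
    refine (ConcreteCategory.congr_hom h1 a).trans ((appLE_congr_hom (XAincl_fst x _) _ le_rfl a).trans ?_)
    rw [Scheme.Hom.appLE]
    simp
    rfl
  have hdec : ∀ z : Γ(ξ.total, V), ∃ r, z = p.app U.1 (ξ.i.appLE V U.1 e.ge z) + baseS ξ V eps * r := fun z => by
    obtain ⟨r, hr⟩ := exists_eq_eps_mul ξ hV U.2 e (z - p.app U.1 (ξ.i.appLE V U.1 e.ge z))
      (by rw [map_sub, hip, sub_self])
    exact ⟨r, eq_add_of_sub_eq' hr⟩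
  have hmem : ∀ L : (localHilb X x I₀).obj (dual k k), ∀ a b : Γ(X, U.1),
      p.app U.1 a + baseS ξ V eps * p.app U.1 b ∈ L.1.ideal ⟨p ⁻¹ᵁ U.1, U.2.preimage p⟩ ↔
        ∃ s : Γ(ClSub.idealMod I₀, U.1), OmegaSh.idealSect I₀ U.1 s = a ∧
          (show Γ(I₀.subscheme, I₀.subschemeι ⁻¹ᵁ U.1) from (psi L).app U.1 s) + I₀.subschemeι.app U.1 b = 0 := by
    intro L a b
    rw [← Scheme.IdealSheafData.ker_subschemeι_app, RingHom.mem_ker, ← app_add_eps_eq_zero_iff L U a b]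
    have hb : (ι' L).app V (baseS ξ V eps) = baseS (objectOf L) (gOf L ⁻¹ᵁ U.1) eps := by
      rw [Scheme.Hom.app_eq_appLE]
      exact appLE_baseS_comp (objectOf L) (ι' L) (XApr x (dual k k)) rfl _ eps
    constructor <;> intro h' <;> refine Eq.trans ?_ h'
    · show _ = (ι' L).app V _
      rw [map_add, map_mul, hb]
      rfl
    · show (ι' L).app V _ = _
      rw [map_add, map_mul, hb]
      rfl
  ext z
  obtain ⟨r, hr⟩ := hdec z
  obtain ⟨r', hr'⟩ := hdec r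
  have hz : z = p.app U.1 (ξ.i.appLE V U.1 e.ge z) + baseS ξ V eps * p.app U.1 (ξ.i.appLE V U.1 e.ge r) := by
    conv_lhs => rw [hr, hr', mul_add, ← mul_assoc, ← map_mul,
      show (eps : dual k k) * eps = 0 from DualNumber.eps_mul_eps, map_zero, zero_mul, add_zero]
  rw [hz, hmem I, hmem K, h]

end Groth.L14.LocHilb
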