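import Groth.Agent.L14.LocHilb.StalkPoint
import Groth.Agent.L14.LocHilb.Tangent
import Groth.Prelude.Def_FGA

/-! # Infinitesimal points of a scheme representing the Hilbert functor -/

set_option autoImplicit false
set_option linter.style.haveILetI false
set_option linter.unusedSectionVars false
set_option backward.isDefEq.respectTransparency.types false
set_option backward.isDefEq.respectTransparency false

universe u

open CategoryTheory CategoryTheory.Limits AlgebraicGeometry TopologicalSpace Opposite ArtFun ArtFun.Art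

namespace Groth.L14.LocHilb

theorem hilbPull_eq_comap {X S : Scheme.{u}} (f : X ⟶ S) {T T' : Over S} (g : T' ⟶ T)
    (I : (PicF.XT f T).IdealSheafData) : FGA.hilbPull f g I = I.comap (PicF.XTmap f g) := by
  rw [FGA.hilbPull, Scheme.IdealSheafData.comap, ← pullbackSymmetry_hom_comp_fst,
    Scheme.Hom.ker_comp_of_isIso]

theorem XTmap_comp {X S : Scheme.{u}} (f : X ⟶ S) {T T' T'' : Over S} (g : T'' ⟶ T') (g' : T' ⟶ T) :
    PicF.XTmap f (g ≫ g') = PicF.XTmap f g ≫ PicF.XTmap f g' := by
  apply pullback.hom_ext <;> simp [PicF.XTmap]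

theorem XTmap_fst {X S : Scheme.{u}} (f : X ⟶ S) {T T' : Over S} (g : T' ⟶ T) :
    PicF.XTmap f g ≫ pullback.fst f T.hom = pullback.fst f T'.hom := by
  rw [PicF.XTmap, pullback.lift_fst, Category.comp_id]

theorem XTmap_snd {X S : Scheme.{u}} (f : X ⟶ S) {T T' : Over S} (g : T' ⟶ T) :
    PicF.XTmap f g ≫ pullback.snd f T.hom = pullback.snd f T'.hom ≫ g.left :=
  pullback.lift_snd _ _ _

theorem hilbPull_mem {X S : Scheme.{u}} (f : X ⟶ S) {T T' : Over S} (g : T' ⟶ T) (I : FGA.HilbSet f T) :
    IsProper ((FGA.hilbPull f g I.1).subschemeι ≫ PicF.XTproj f T') ∧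
      Flat ((FGA.hilbPull f g I.1).subschemeι ≫ PicF.XTproj f T') := by
  have hpb : IsPullback (PicF.XTmap f g) (PicF.XTproj f T') (PicF.XTproj f T) g.left := by
    refine IsPullback.of_right ?_ (pullback.lift_snd _ _ _) (IsPullback.of_hasPullback f T.hom)
    have e1 : PicF.XTmap f g ≫ pullback.fst f T.hom = pullback.fst f T'.hom := by
      rw [PicF.XTmap, pullback.lift_fst, Category.comp_id]
    rw [e1, Over.w g]
    exact IsPullback.of_hasPullback f T'.hom
  have sq : IsPullback (pullback.snd (PicF.XTmap f g) I.1.subschemeι)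
      (pullback.fst (PicF.XTmap f g) I.1.subschemeι ≫ PicF.XTproj f T')
      (I.1.subschemeι ≫ PicF.XTproj f T) g.left :=
    IsPullback.paste_vert (IsPullback.of_hasPullback (PicF.XTmap f g) I.1.subschemeι).flip hpb
  have h1 : IsProper (pullback.fst (PicF.XTmap f g) I.1.subschemeι ≫ PicF.XTproj f T') :=
    MorphismProperty.of_isPullback (P := @IsProper) sq I.2.1
  have h2 : Flat (pullback.fst (PicF.XTmap f g) I.1.subschemeι ≫ PicF.XTproj f T') :=
    MorphismProperty.of_isPullback (P := @Flat) sq I.2.2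
  haveI : IsClosedImmersion (pullback.fst (PicF.XTmap f g) I.1.subschemeι) :=
    MorphismProperty.pullback_fst (P := @IsClosedImmersion) _ _ inferInstance
  rw [hilbPull_eq_comap, ← Scheme.IdealSheafData.comapIso_hom_fst, Category.assoc]
  exact ⟨(MorphismProperty.cancel_left_of_respectsIso @IsProper _ _).2 h1,
    (MorphismProperty.cancel_left_of_respectsIso @Flat _ _).2 h2⟩

variable {k : Type u} [Field k] {Y : Scheme.{u}} (y : Y ⟶ specPt k) {H : Over (specPt k)}

/-- `Spec A` over `Spec k`. -/
noncomputable abbrev ptOver (A : Art k k) : Over (specPt k) := Over.mk (specOver A)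

/-- The map to `H` of a point of the stalk. -/
noncomputable def ptHom {σ : specPt k ⟶ H.left} {A : Art k k} (φ : StHom H.hom σ A) : ptOver A ⟶ H :=
  Over.homMk φ.pt φ.pt_π

variable (Z : FGA.HilbSet y H) (hpt : Over.mk (𝟙 (specPt k)) ⟶ H) (I₀ : Y.IdealSheafData)
  (hh : FGA.hilbPull y hpt Z.1 = I₀.comap (pullback.fst y (Over.mk (𝟙 (specPt k))).hom))

/-- The closed fibre as a map over the base. -/
noncomputable def resOver (A : Art k k) : Over.mk (𝟙 (specPt k)) ⟶ ptOver A :=
  Over.homMk (specRes A) (by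
    show specRes A ≫ specMap (ofBase A) = 𝟙 _
    rw [specRes_comp]
    show Spec.map _ = _
    rw [← Spec.map_id]
    rfl)

theorem XTmap_resOver (A : Art k k) :
    PicF.XTmap y (resOver A) = pullback.fst y (Over.mk (𝟙 (specPt k))).hom ≫ XAincl y A := by
  apply pullback.hom_ext
  · rw [Category.assoc, XTmap_fst]
    exact ((congrArg (_ ≫ ·) (XAincl_fst y A)).trans (Category.comp_id _)).symm
  · rw [Category.assoc, XTmap_snd]
    refine Eq.trans ?_ (congrArg (_ ≫ ·) (XAincl_snd y A)).symm
    rw [← Category.assoc, pullback.condition]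
    exact congrArg (· ≫ specRes A) (Category.comp_id _).symm

/-- A section of the projection from the trivial base change. -/
noncomputable def selfLift : Y ⟶ pullback y (Over.mk (𝟙 (specPt k))).hom :=
  pullback.lift (𝟙 Y) y (by rw [Category.id_comp]; exact (Category.comp_id y).symm)

include hh in
theorem comap_incl_of_pt {A : Art k k} (g : ptOver A ⟶ H) (hg : specRes A ≫ g.left = hpt.left) :
    (Z.1.comap (PicF.XTmap y g)).comap (XAincl y A) = I₀ := by
  have e : XAincl y A ≫ PicF.XTmap y g = selfLift y ≫ PicF.XTmap y hpt := by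
    apply pullback.hom_ext
    · rw [Category.assoc, Category.assoc, XTmap_fst, XTmap_fst]
      exact (XAincl_fst y A).trans (pullback.lift_fst _ _ _).symm
    · rw [Category.assoc, Category.assoc, XTmap_snd, XTmap_snd, ← Category.assoc, ← Category.assoc]
      refine (congrArg (· ≫ g.left) (XAincl_snd y A)).trans
        (Eq.trans ?_ (congrArg (· ≫ hpt.left) (pullback.lift_snd _ _ _)).symm)
      rw [Category.assoc]
      exact congrArg (y ≫ ·) hg
  rw [← Scheme.IdealSheafData.comap_comp, e, Scheme.IdealSheafData.comap_comp, ← hilbPull_eq_comap, hh,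
    ← Scheme.IdealSheafData.comap_comp, selfLift, pullback.lift_fst, Scheme.IdealSheafData.comap_id]

/-- The embedded deformation of a point of the stalk. -/
noncomputable def ofPt {A : Art k k} (φ : StHom H.hom hpt.left A) : (localHilb Y y I₀).obj A :=
  ⟨Z.1.comap (PicF.XTmap y (ptHom φ)), by
    have h := (hilbPull_mem y (ptHom φ) Z).2
    rw [hilbPull_eq_comap] at h
    exact h, comap_incl_of_pt y Z hpt I₀ hh (ptHom φ) φ.specRes_pt⟩

theorem ofPt_map {A B : Art k k} (μ : A ⟶ B) (φ : StHom H.hom hpt.left A) :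
    ofPt y Z hpt I₀ hh (φ.map μ) = (localHilb Y y I₀).map μ (ofPt y Z hpt I₀ hh φ) := by
  refine Subtype.ext ?_
  show Z.1.comap _ = (Z.1.comap _).comap (XAmap y μ)
  rw [← Scheme.IdealSheafData.comap_comp]
  refine congrArg (Scheme.IdealSheafData.comap Z.1) ?_
  apply pullback.hom_ext
  · rw [Category.assoc, XTmap_fst, XTmap_fst]
    exact (XAmap_fst y μ).symm
  · rw [Category.assoc, XTmap_snd, XTmap_snd, ← Category.assoc]
    refine Eq.trans ?_ (congrArg (· ≫ φ.pt) (XAmap_snd y μ)).symm
    rw [Category.assoc]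
    exact congrArg (pullback.snd y (specOver B) ≫ ·) (φ.pt_map μ)

theorem ofPt_bijective [IsProper y] (hH : FGA.HilbRepresentedBy y H Z) (A : Art k k) :
    Function.Bijective (ofPt y Z hpt I₀ hh (A := A)) := by
  haveI : IsArtinianRing A := inferInstance
  haveI : IsLocallyNoetherian (ptOver A).left := inferInstanceAs (IsLocallyNoetherian (Spec (CommRingCat.of A)))
  haveI : IsLocallyNoetherian (Over.mk (𝟙 (specPt k))).left :=
    inferInstanceAs (IsLocallyNoetherian (Spec (CommRingCat.of k)))
  refine ⟨fun φ ψ h => StHom.pt_injective ?_, fun J => ?_⟩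
  · obtain ⟨g, -, hu⟩ := hH.2 (ptOver A) ⟨_, hilbPull_mem y (ptHom φ) Z⟩
    have hψ : FGA.hilbPull y (ptHom ψ) Z.1 = FGA.hilbPull y (ptHom φ) Z.1 := by
      rw [hilbPull_eq_comap, hilbPull_eq_comap]
      exact (congrArg Subtype.val h).symm
    exact congrArg CommaMorphism.left ((hu (ptHom φ) rfl).trans (hu (ptHom ψ) hψ).symm)
  · haveI : IsProper (XApr y A) := MorphismProperty.pullback_snd (P := @IsProper) _ _ inferInstance
    have hJ : IsProper (J.1.subschemeι ≫ XApr y A) := inferInstance
    obtain ⟨g, hg, -⟩ := hH.2 (ptOver A) ⟨J.1, hJ, J.2.1⟩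
    obtain ⟨g₀, -, hu⟩ := hH.2 (Over.mk (𝟙 (specPt k))) ⟨_, hilbPull_mem y hpt Z⟩
    have e : resOver A ≫ g = hpt := by
      refine (hu _ ?_).trans (hu hpt rfl).symm
      show FGA.hilbPull y (resOver A ≫ g) Z.1 = FGA.hilbPull y hpt Z.1
      rw [hilbPull_eq_comap, XTmap_comp, Scheme.IdealSheafData.comap_comp, ← hilbPull_eq_comap y g, hg,
        XTmap_resOver, Scheme.IdealSheafData.comap_comp, hh]
      exact congrArg (fun I => Scheme.IdealSheafData.comap I _) J.2.2
    obtain ⟨φ, hφ⟩ := StHom.exists_pt (π := H.hom) (σ := hpt.left) g.left (Over.w g)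
      (congrArg CommaMorphism.left e)
    refine ⟨φ, Subtype.ext ?_⟩
    have : ptHom φ = g := Over.OverMorphism.ext hφ
    show Z.1.comap _ = J.1
    rw [this, ← hilbPull_eq_comap, hg]

end Groth.L14.LocHilb
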