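import Groth.Agent.L14.LocHilb.Val
import Mathlib.RingTheory.Flat.Basic

/-! # Flatness over dual numbers -/

set_option autoImplicit false
set_option linter.style.haveILetI false

universe u

open TensorProduct ArtFun ArtFun.Art IsLocalRing

namespace Groth.L14.LocHilb

variable {k : Type u} [Field k]

theorem ideal_dual (I : Ideal (dual k k)) : I = ⊥ ∨ I = Ideal.span {eps} ∨ I = ⊤ := by
  by_cases h1 : I = ⊤
  · exact Or.inr (Or.inr h1)
  by_cases h0 : I = ⊥
  · exact Or.inl h0
  refine Or.inr (Or.inl (le_antisymm (maximalIdeal_dual (k := k) ▸ le_maximalIdeal h1) ?_))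
  obtain ⟨a, ha, hne⟩ := Submodule.exists_mem_ne_zero_of_ne_bot h0
  have ham : a ∈ maximalIdeal (dual k k) := le_maximalIdeal h1 ha
  rw [maximalIdeal_dual, Ideal.mem_span_singleton'] at ham
  obtain ⟨c, rfl⟩ := ham
  rw [Ideal.span_singleton_le_iff_mem]
  have hu : IsUnit c := by
    by_contra hc
    exact hne (Ideal.mem_bot.mp (mul_eps c ((mem_maximalIdeal c).mpr hc)))
  exact (Ideal.unit_mul_mem_iff_mem I hu).mp ha

/-- A module over dual numbers in which the annihilator of `ε` is `εM` is flat. -/
theorem flat_dual {M : Type u} [AddCommGroup M] [Module (dual k k) M]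
    (h : ∀ m : M, (eps : dual k k) • m = 0 → ∃ m', (eps : dual k k) • m' = m) : Module.Flat (dual k k) M := by
  rw [Module.Flat.iff_rTensor_injective']
  intro I
  rcases ideal_dual I with rfl | rfl | rfl
  · intro a b _
    have : ∀ z : (⊥ : Ideal (dual k k)) ⊗[dual k k] M, z = 0 := fun z => by
      induction z using TensorProduct.induction_on with
      | zero => rfl
      | tmul x y => rw [show x = 0 from Subsingleton.elim _ _, zero_tmul]
      | add x y hx hy => rw [hx, hy, add_zero]
    rw [this a, this b]
  · let e : (Ideal.span {(eps : dual k k)} : Ideal (dual k k)) := ⟨eps, Ideal.mem_span_singleton_self _⟩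
    have key : ∀ z : (Ideal.span {(eps : dual k k)} : Ideal (dual k k)) ⊗[dual k k] M, ∃ m : M, z = e ⊗ₜ m := fun z => by
      induction z using TensorProduct.induction_on with
      | zero => exact ⟨0, (tmul_zero _ _).symm⟩
      | tmul x y =>
        obtain ⟨c, hc⟩ := Ideal.mem_span_singleton'.mp x.2
        refine ⟨c • y, ?_⟩
        rw [tmul_smul, smul_tmul', show x = c • e from Subtype.ext hc.symm]
      | add x y hx hy =>
        obtain ⟨a, rfl⟩ := hx
        obtain ⟨b, rfl⟩ := hy
        exact ⟨a + b, (tmul_add _ _ _).symm⟩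
    rw [injective_iff_map_eq_zero]
    intro z hz
    obtain ⟨m, rfl⟩ := key z
    have hm : (eps : dual k k) • m = 0 := by
      have := congrArg (TensorProduct.lid (dual k k) M) hz
      rwa [LinearMap.rTensor_tmul, TensorProduct.lid_tmul, map_zero] at this
    obtain ⟨m', rfl⟩ := h m hm
    rw [tmul_smul, smul_tmul', show (eps : dual k k) • e = 0 from Subtype.ext DualNumber.eps_mul_eps, zero_tmul]
  · have hb : Function.Bijective ((⊤ : Ideal (dual k k)).subtype) :=
      ⟨Subtype.val_injective, fun a => ⟨⟨a, Submodule.mem_top⟩, rfl⟩⟩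
    exact (LinearEquiv.rTensor M (LinearEquiv.ofBijective _ hb)).injective

end Groth.L14.LocHilb
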