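import Groth.Agent.L14.LocHilb.Tangent
import Groth.Agent.L14.LocHilb.DualFlat

/-! # Every homomorphism `I₀ → O/I₀` comes from a first-order embedded deformation -/

set_option autoImplicit false
set_option linter.style.haveILetI false
set_option linter.unusedSectionVars false
set_option backward.isDefEq.respectTransparency.types false
set_option backward.isDefEq.respectTransparency false

universe u

open CategoryTheory CategoryTheory.Limits AlgebraicGeometry TopologicalSpace Opposite ArtFun ArtFun.Art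

namespace Groth.L14.LocHilb

open Groth.L14.DefLift
open Groth.L18.Frame (rs ro ro_ro ro_self)

variable {k : Type u} [Field k] {X : Scheme.{u}} (x : X ⟶ specPt k) {I₀ : X.IdealSheafData}
  (Φ : ClSub.idealMod I₀ ⟶ ClSub.quotMod I₀)

/-- `X[ε]` -/
noncomputable abbrev XE : DefSch X x (dual k k) := trivXA (x := x) (dual k k)

/-- The projection to `X`. -/
noncomputable abbrev prX : (XE x).total ⟶ X := pullback.fst x (specOver (dual k k))

variable {x}

theorem le_prX (V : (XE x).total.Opens) : V ≤ prX x ⁻¹ᵁ ((XE x).i ⁻¹ᵁ V) := by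
  refine i_le_of_le (XE x) (le_of_eq ?_)
  rw [← Scheme.Hom.comp_preimage (XE x).i (prX x), show (XE x).i ≫ prX x = 𝟙 X from XAincl_fst x _]
  rfl

/-- Restriction to `X`. -/
noncomputable abbrev iX (V : (XE x).total.Opens) : Γ((XE x).total, V) →+* Γ(X, (XE x).i ⁻¹ᵁ V) :=
  ((XE x).i.appLE V ((XE x).i ⁻¹ᵁ V) le_rfl).hom

/-- Extension from `X`. -/
noncomputable abbrev pX (V : (XE x).total.Opens) : Γ(X, (XE x).i ⁻¹ᵁ V) →+* Γ((XE x).total, V) :=
  ((prX x).appLE ((XE x).i ⁻¹ᵁ V) V (le_prX V)).hom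

theorem iX_pX (V : (XE x).total.Opens) (a : Γ(X, (XE x).i ⁻¹ᵁ V)) : iX V (pX V a) = a := by
  have h1 : (prX x).appLE ((XE x).i ⁻¹ᵁ V) V (le_prX V) ≫ (XE x).i.appLE V ((XE x).i ⁻¹ᵁ V) le_rfl =
      ((XE x).i ≫ prX x).appLE ((XE x).i ⁻¹ᵁ V) ((XE x).i ⁻¹ᵁ V)
        (((XE x).i.preimage_mono (le_prX V))) := Scheme.Hom.appLE_comp_appLE _ _ _ _ _ _ _
  refine (ConcreteCategory.congr_hom h1 a).trans ((appLE_congr_hom (XAincl_fst x _) _ le_rfl a).trans ?_)
  rw [Scheme.Hom.appLE]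
  simp
  rfl

theorem iX_eps (V : (XE x).total.Opens) : iX V (baseS (XE x) V eps) = 0 := by
  show (XE x).i.appLE V _ _ _ = 0
  rw [appLE_baseS, fst_eps, map_zero, map_zero]

theorem exists_dec {V : (XE x).total.Opens} (hV : IsAffineOpen V) (z : Γ((XE x).total, V)) :
    ∃ r, z - pX V (iX V z) = baseS (XE x) V eps * r :=
  exists_eq_eps_mul (XE x) hV (hV.preimage (XE x).i) rfl _
    ((map_sub (iX V) z _).trans (by rw [iX_pX, sub_self]))

theorem iX_eq_of_dec {V : (XE x).total.Opens} (hV : IsAffineOpen V) {r r' : Γ((XE x).total, V)}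
    (h : baseS (XE x) V eps * r = baseS (XE x) V eps * r') : iX V r = iX V r' := by
  rw [← sub_eq_zero, ← map_sub]
  exact (eps_mul_eq_zero_iff (XE x) hV (hV.preimage (XE x).i) rfl _).mp (by rw [mul_sub, h, sub_self])

/-- The restriction to `Y₀`. -/
noncomputable abbrev toY (U : X.Opens) : Γ(X, U) →+* Γ(I₀.subscheme, I₀.subschemeι ⁻¹ᵁ U) := (I₀.subschemeι.app U).hom

/-- `Φ` on sections, valued in functions on `Y₀`. -/
noncomputable def Φ' (U : X.Opens) (s : Γ(ClSub.idealMod I₀, U)) : Γ(I₀.subscheme, I₀.subschemeι ⁻¹ᵁ U) :=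
  Φ.app U s

theorem Φ'_add (U : X.Opens) (s t : Γ(ClSub.idealMod I₀, U)) : Φ' Φ U (s + t) = Φ' Φ U s + Φ' Φ U t :=
  map_add (Φ.app U).hom s t

theorem Φ'_smul (U : X.Opens) (a : Γ(X, U)) (s : Γ(ClSub.idealMod I₀, U)) :
    Φ' Φ U (a • s) = toY U a * Φ' Φ U s :=
  Scheme.Modules.Hom.app_smul Φ a s

/-- The defect of a section of `X[ε]` from the deformation of `Φ`. -/
def Defect (V : (XE x).total.Opens) (z : Γ((XE x).total, V))
    (d : Γ(I₀.subscheme, I₀.subschemeι ⁻¹ᵁ ((XE x).i ⁻¹ᵁ V))) : Prop :=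
  ∃ (s : Γ(ClSub.idealMod I₀, (XE x).i ⁻¹ᵁ V)) (r : Γ((XE x).total, V)),
    OmegaSh.idealSect I₀ _ s = iX V z ∧ z - pX V (iX V z) = baseS (XE x) V eps * r ∧
      d = Φ' Φ _ s + toY _ (iX V r)

variable {Φ}

theorem Defect.unique {V : (XE x).total.Opens} (hV : IsAffineOpen V) {z : Γ((XE x).total, V)}
    {d d'} (h : Defect Φ V z d) (h' : Defect Φ V z d') : d = d' := by
  obtain ⟨s, r, hs, hr, rfl⟩ := h
  obtain ⟨s', r', hs', hr', rfl⟩ := h'
  obtain rfl : s = s' := _root_.OmegaSh.idealModι_app_injective _ _ (hs.trans hs'.symm)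
  rw [iX_eq_of_dec hV (hr.symm.trans hr')]

theorem Defect.add {V : (XE x).total.Opens} {z z' : Γ((XE x).total, V)} {d d'}
    (h : Defect Φ V z d) (h' : Defect Φ V z' d') : Defect Φ V (z + z') (d + d') := by
  obtain ⟨s, r, hs, hr, rfl⟩ := h
  obtain ⟨s', r', hs', hr', rfl⟩ := h'
  refine ⟨s + s', r + r', by rw [map_add, map_add, hs, hs'], ?_, ?_⟩
  · rw [map_add, map_add, mul_add, ← hr, ← hr']
    ring
  · rw [Φ'_add, map_add (iX V), map_add (toY _)]
    ring

theorem Defect.mul {V : (XE x).total.Opens} (hV : IsAffineOpen V) {z : Γ((XE x).total, V)} {d}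
    (h : Defect Φ V z d) (w : Γ((XE x).total, V)) : Defect Φ V (w * z) (toY _ (iX V w) * d) := by
  obtain ⟨s, r, hs, hr, rfl⟩ := h
  obtain ⟨q, hq⟩ := exists_dec hV w
  refine ⟨iX V w • s, q * pX V (iX V z) + w * r, ?_, ?_, ?_⟩
  · rw [map_mul, ← hs]
    exact Scheme.Modules.Hom.app_smul (ClSub.idealModι I₀) _ s
  · rw [map_mul, map_mul, mul_add, ← mul_assoc, ← hq, mul_left_comm, ← hr]
    ring
  · have h0 : toY (I₀ := I₀) _ (iX V z) = 0 := by
      rw [← hs]
      exact ideal_mem_app_zero _ _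
    rw [Φ'_smul, map_add, map_mul, map_mul, iX_pX, map_add, map_mul, map_mul, h0, mul_zero, zero_add, mul_add]

theorem exists_defect {V : (XE x).total.Opens} (hV : IsAffineOpen V) (z : Γ((XE x).total, V))
    (h : toY (I₀ := I₀) _ (iX V z) = 0) : ∃ d, Defect Φ V z d := by
  obtain ⟨s, hs⟩ := exists_sect (I₀ := I₀) ⟨_, hV.preimage (XE x).i⟩ h
  obtain ⟨r, hr⟩ := exists_dec hV z
  exact ⟨_, s, r, hs, hr, rfl⟩

theorem Defect.res {V V' : (XE x).total.Opens} (hle : V' ≤ V) {z : Γ((XE x).total, V)} {d}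
    (h : Defect Φ V z d) : Defect Φ V' (ro hle z)
      (ro (Scheme.Hom.preimage_mono I₀.subschemeι (Scheme.Hom.preimage_mono (XE x).i hle)) d) := by
  obtain ⟨s, r, hs, hr, rfl⟩ := h
  have hi : ∀ w, iX V' (ro hle w) = ro (Scheme.Hom.preimage_mono (XE x).i hle) (iX V w) := fun w =>
    (ConcreteCategory.congr_hom (Scheme.Hom.map_appLE (XE x).i le_rfl (homOfLE hle).op) w).trans
      (ConcreteCategory.congr_hom (Scheme.Hom.appLE_map (XE x).i le_rfl
        (homOfLE (Scheme.Hom.preimage_mono (XE x).i hle)).op) w).symm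
  have hp : ∀ a, pX V' (ro (Scheme.Hom.preimage_mono (XE x).i hle) a) = ro hle (pX V a) := fun a =>
    (ConcreteCategory.congr_hom (Scheme.Hom.map_appLE (prX x) (le_prX V')
      (homOfLE (Scheme.Hom.preimage_mono (XE x).i hle)).op) a).trans
      (ConcreteCategory.congr_hom (Scheme.Hom.appLE_map (prX x) (le_prX V) (homOfLE hle).op) a).symm
  refine ⟨rs (ClSub.idealMod I₀) (Scheme.Hom.preimage_mono (XE x).i hle) s, ro hle r, ?_, ?_, ?_⟩
  · rw [hi, ← hs]
    exact congr($((Scheme.Modules.Hom.mapPresheaf (ClSub.idealModι I₀)).naturality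
      (homOfLE (Scheme.Hom.preimage_mono (XE x).i hle)).op) s)
  · rw [hi, hp]
    refine ((map_sub ((XE x).total.presheaf.map (homOfLE hle).op).hom _ _).symm.trans
      (congrArg _ hr)).trans ((map_mul _ _ _).trans ?_)
    exact congrArg (· * _) (ro_baseS (XE x) hle eps)
  · refine (map_add (I₀.subscheme.presheaf.map (homOfLE _).op).hom _ _).trans (congrArg₂ (· + ·) ?_ ?_)
    · exact (congr($((Scheme.Modules.Hom.mapPresheaf Φ).naturality
        (homOfLE (Scheme.Hom.preimage_mono (XE x).i hle)).op) s)).symm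
    · rw [hi]
      exact (ConcreteCategory.congr_hom (I₀.subschemeι.naturality
        (homOfLE (Scheme.Hom.preimage_mono (XE x).i hle)).op) (iX V r)).symm

variable (Φ)

/-- The ideal of the deformation of `Φ`. -/
noncomputable def idealOf (V : (XE x).total.affineOpens) : Ideal Γ((XE x).total, V.1) where
  carrier := {z | Defect Φ V.1 z 0}
  add_mem' := fun {a b} ha hb => by
    show Defect Φ V.1 (a + b) 0
    simpa using Defect.add ha hb
  zero_mem' := ⟨0, 0, by rw [map_zero, map_zero], by rw [map_zero, map_zero, sub_zero, mul_zero], by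
    rw [map_zero, map_zero, show Φ' Φ ((XE x).i ⁻¹ᵁ V.1) 0 = 0 from map_zero (Φ.app _).hom, add_zero]⟩
  smul_mem' := fun w a ha => by
    show Defect Φ V.1 (w * a) 0
    simpa using Defect.mul V.2 ha w

theorem mem_idealOf (V : (XE x).total.affineOpens) (z) : z ∈ idealOf Φ V ↔ Defect Φ V.1 z 0 := Iff.rfl

/-- The closed subscheme of `Φ`. -/
noncomputable def idealSheafOf : (XE x).total.IdealSheafData where
  ideal := idealOf Φ
  map_ideal_basicOpen V f := by
    have hle : (XE x).total.basicOpen f ≤ V.1 := (XE x).total.basicOpen_le f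
    refine le_antisymm (Ideal.map_le_iff_le_comap.mpr fun z hz => ?_) fun z hz => ?_
    · show Defect Φ _ (ro hle z) 0
      have := Defect.res hle ((mem_idealOf Φ V z).mp hz)
      rwa [show ro _ (0 : Γ(I₀.subscheme, I₀.subschemeι ⁻¹ᵁ ((XE x).i ⁻¹ᵁ V.1))) = 0 from map_zero _] at this
    · let U := (XE x).i ⁻¹ᵁ V.1
      let W := I₀.subschemeι ⁻¹ᵁ U
      let g : Γ(I₀.subscheme, W) := toY U (iX V.1 f)
      have hW : IsAffineOpen W := (V.2.preimage (XE x).i).preimage I₀.subschemeι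
      let hle' : I₀.subschemeι ⁻¹ᵁ ((XE x).i ⁻¹ᵁ (XE x).total.basicOpen f) ≤ W :=
        Scheme.Hom.preimage_mono _ (Scheme.Hom.preimage_mono _ hle)
      letI := (I₀.subscheme.presheaf.map (homOfLE hle').op).hom.toAlgebra
      haveI : IsLocalization.Away g Γ(I₀.subscheme, I₀.subschemeι ⁻¹ᵁ ((XE x).i ⁻¹ᵁ (XE x).total.basicOpen f)) :=
        hW.isLocalization_of_eq_basicOpen g (homOfLE hle') (by
          rw [Scheme.preimage_basicOpen, Scheme.preimage_basicOpen]
          simp only [g, U, iX, toY, Scheme.Hom.app_eq_appLE])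
      have hkill : ∀ w : Γ(I₀.subscheme, W), ro hle' w = 0 → ∃ m : ℕ, g ^ m * w = 0 := fun w hw => by
        obtain ⟨⟨_, m, rfl⟩, hm⟩ := (IsLocalization.map_eq_zero_iff (Submonoid.powers g) _ w).mp hw
        exact ⟨m, hm⟩
      haveI := V.2.isLocalization_basicOpen f
      obtain ⟨⟨z₁, _, n, rfl⟩, hz₁⟩ := IsLocalization.surj (Submonoid.powers f) z
      replace hz₁ : z * ro hle (f ^ n) = ro hle z₁ := hz₁
      have hz' : Defect Φ _ (ro hle z₁) 0 := by
        rw [← hz₁, mul_comm]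
        exact Ideal.mul_mem_left (idealOf Φ ⟨(XE x).total.basicOpen f, V.2.basicOpen f⟩) _ hz
      obtain ⟨m, hm⟩ := hkill (toY U (iX V.1 z₁)) (by
        obtain ⟨s, r, hs, -, -⟩ := hz'
        have h1 : toY (I₀ := I₀) _ (iX _ (ro hle z₁)) = 0 := by rw [← hs]; exact ideal_mem_app_zero _ _
        refine Eq.trans ?_ h1
        have h2 : iX _ (ro hle z₁) = ro (Scheme.Hom.preimage_mono (XE x).i hle) (iX V.1 z₁) :=
          (ConcreteCategory.congr_hom (Scheme.Hom.map_appLE (XE x).i le_rfl (homOfLE hle).op) z₁).trans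
            (ConcreteCategory.congr_hom (Scheme.Hom.appLE_map (XE x).i le_rfl
              (homOfLE (Scheme.Hom.preimage_mono (XE x).i hle)).op) z₁).symm
        rw [h2]
        exact (ConcreteCategory.congr_hom (I₀.subschemeι.naturality
          (homOfLE (Scheme.Hom.preimage_mono (XE x).i hle)).op) (iX V.1 z₁)).symm)
      obtain ⟨d, hd⟩ := exists_defect (Φ := Φ) V.2 (f ^ m * z₁)
        (by rw [map_mul, map_mul, map_pow, map_pow]; exact hm)
      have hd0 : ro hle' d = 0 := by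
        have h1 := Defect.res hle hd
        rw [show ro hle (f ^ m * z₁) = ro hle (f ^ m) * ro hle z₁ from map_mul _ _ _] at h1
        have h2 := Defect.mul (V.2.basicOpen f) hz' (ro hle (f ^ m))
        rw [mul_zero] at h2
        exact Defect.unique (V.2.basicOpen f) h1 h2
      obtain ⟨q, hq⟩ := hkill d hd0
      have hmem : f ^ q * (f ^ m * z₁) ∈ idealOf Φ V := by
        rw [mem_idealOf]
        have h1 := Defect.mul V.2 hd (f ^ q)
        rw [map_pow, map_pow] at h1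
        rwa [hq] at h1
      have h3 := Ideal.mem_map_of_mem ((XE x).total.presheaf.map (homOfLE hle).op).hom hmem
      rw [map_mul, map_mul] at h3
      have hu : ∀ j : ℕ, IsUnit (ro hle (f ^ j)) := fun j => by
        rw [show ro hle (f ^ j) = ro hle f ^ j from map_pow _ _ _]
        exact ((XE x).total.toRingedSpace.isUnit_res_basicOpen f).pow j
      refine (Ideal.unit_mul_mem_iff_mem _ (hu n)).mp ?_
      rw [mul_comm, hz₁]
      exact (Ideal.unit_mul_mem_iff_mem _ (hu m)).mp ((Ideal.unit_mul_mem_iff_mem _ (hu q)).mp h3)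

theorem exists_lift_toY (U : X.affineOpens) (b : Γ(I₀.subscheme, I₀.subschemeι ⁻¹ᵁ U.1)) : ∃ a, toY U.1 a = b :=
  Scheme.Hom.app_surjective I₀.subschemeι U.1 U.2 b

theorem mem_idealOf_of (V : (XE x).total.affineOpens) (s : Γ(ClSub.idealMod I₀, (XE x).i ⁻¹ᵁ V.1))
    (b : Γ(X, (XE x).i ⁻¹ᵁ V.1)) (h : Φ' Φ _ s + toY _ b = 0) :
    pX V.1 (OmegaSh.idealSect I₀ _ s) + baseS (XE x) V.1 eps * pX V.1 b ∈ idealOf Φ V := by
  refine ⟨s, pX V.1 b, ?_, ?_, ?_⟩
  · rw [map_add, map_mul, iX_pX, iX_eps, zero_mul, add_zero]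
  · rw [map_add (iX V.1), map_mul (iX V.1), iX_pX, iX_eps, zero_mul, add_zero, add_sub_cancel_left]
  · rw [iX_pX, h]

theorem flatOver : FlatOver X x (dual k k) (idealSheafOf Φ) := by
  unfold FlatOver
  refine IsZariskiLocalAtSource.of_openCover (P := @Flat) (idealSheafOf Φ).subschemeCover.openCover fun V => ?_
  show Flat ((idealSheafOf Φ).subschemeCover.f V ≫ (idealSheafOf Φ).subschemeι ≫ XApr x (dual k k))
  rw [← Category.assoc, Scheme.IdealSheafData.subschemeCover_map_subschemeι]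
  let R := Γ((XE x).total, V.1)
  let J : Ideal R := idealOf Φ V
  let φ : dual k k →+* R ⧸ J := (Ideal.Quotient.mk J).comp (baseS (XE x) V.1)
  have e : Spec.map (CommRingCat.ofHom φ) =
      Spec.map (CommRingCat.ofHom (Ideal.Quotient.mk J)) ≫ V.2.fromSpec ≫ XApr x (dual k k) := by
    rw [← show Spec.map (CommRingCat.ofHom (baseS (XE x) V.1)) = V.2.fromSpec ≫ XApr x (dual k k) from
      specMap_baseS (XE x) V.2, ← Spec.map_comp]
    rfl
  have hflat : φ.Flat := by
    letI := φ.toAlgebra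
    refine flat_dual fun m hm => ?_
    obtain ⟨z, rfl⟩ := Ideal.Quotient.mk_surjective m
    have hz : baseS (XE x) V.1 eps * z ∈ idealOf Φ V := Ideal.Quotient.eq_zero_iff_mem.mp hm
    obtain ⟨s, r, hs, hr, h0⟩ := hz
    rw [map_mul, iX_eps, zero_mul] at hs
    obtain rfl : s = 0 := _root_.OmegaSh.idealModι_app_injective _ _ (hs.trans (map_zero _).symm)
    rw [map_mul (iX V.1), iX_eps, zero_mul, map_zero, sub_zero] at hr
    have hiz : toY (I₀ := I₀) _ (iX V.1 z) = 0 := by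
      rw [iX_eq_of_dec V.2 hr, h0, show Φ' Φ ((XE x).i ⁻¹ᵁ V.1) 0 = 0 from map_zero (Φ.app _).hom, zero_add]
    obtain ⟨s', hs'⟩ := exists_sect (I₀ := I₀) ⟨_, V.2.preimage (XE x).i⟩ hiz
    obtain ⟨b, hb⟩ := exists_lift_toY ⟨_, V.2.preimage (XE x).i⟩ (-(Φ' Φ _ s'))
    obtain ⟨q, hq⟩ := exists_dec V.2 z
    refine ⟨Ideal.Quotient.mk J (q - pX V.1 b), ?_⟩
    show φ eps * Ideal.Quotient.mk J (q - pX V.1 b) = _
    show Ideal.Quotient.mk J (baseS (XE x) V.1 eps) * Ideal.Quotient.mk J (q - pX V.1 b) = _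
    rw [← map_mul, eq_comm, Ideal.Quotient.eq]
    have h2 := mem_idealOf_of Φ V s' b (by rw [hb, add_neg_cancel])
    rw [hs'] at h2
    convert h2 using 1
    rw [mul_sub, ← hq]
    ring
  have := HasRingHomProperty.Spec_iff (P := @Flat) (φ := CommRingCat.ofHom φ) |>.mpr hflat
  rw [e] at this
  rwa [Category.assoc]

theorem comap_incl : (idealSheafOf Φ).comap (XAincl x (dual k k)) = I₀ := by
  haveI : IsClosedImmersion (XAincl x (dual k k)) := isClosedImmersion_i (XE x)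
  refine le_antisymm (Scheme.IdealSheafData.le_map_iff_comap_le.mp fun V => ?_) fun U => ?_
  · rw [Scheme.IdealSheafData.ideal_map _ _ _ (V.2.preimage _)]
    intro z hz
    obtain ⟨s, r, hs, -, -⟩ := hz
    rw [Ideal.mem_comap, ← Scheme.IdealSheafData.ker_subschemeι_app, RingHom.mem_ker]
    have := ideal_mem_app_zero (I₀ := I₀) _ s
    rw [hs] at this
    refine (congrArg _ (ConcreteCategory.congr_hom (Scheme.Hom.app_eq_appLE (f := (XE x).i) (U := V.1)) z)).trans ?_
    exact this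
  · obtain ⟨U, hU⟩ := U
    obtain ⟨V, rfl⟩ := exists_open (XE x) U
    have hV : IsAffineOpen V := isAffineOpen_of_preimage _ hU
    intro a ha
    have ha0 : toY (I₀ := I₀) _ a = 0 := by
      rw [← Scheme.IdealSheafData.ker_subschemeι_app, RingHom.mem_ker] at ha
      exact ha
    obtain ⟨s, hs⟩ := exists_sect (I₀ := I₀) ⟨_, hU⟩ ha0
    obtain ⟨b, hb⟩ := exists_lift_toY ⟨_, hU⟩ (-(Φ' Φ _ s))
    have h2 := mem_idealOf_of Φ ⟨V, hV⟩ s b (by rw [hb, add_neg_cancel])
    have h3 := Scheme.IdealSheafData.le_map_comap (J := idealSheafOf Φ) (f := XAincl x (dual k k)) ⟨V, hV⟩ h2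
    rw [Scheme.IdealSheafData.ideal_map _ (XAincl x (dual k k)) ⟨V, hV⟩ hU, Ideal.mem_comap, Scheme.Hom.app_eq_appLE] at h3
    rw [hs] at h3
    have e : a = iX V (pX V a + baseS (XE x) V eps * pX V b) := by
      rw [map_add, map_mul, iX_pX, iX_eps, zero_mul, add_zero]
    rw [e]
    exact h3

theorem psi_surjective : ∃ L : (localHilb X x I₀).obj (dual k k), psi L = Φ := by
  refine ⟨⟨idealSheafOf Φ, flatOver Φ, comap_incl Φ⟩, Groth.L16.AffineBC.hom_ext_affine _ _ fun U hU s => ?_⟩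
  let L : (localHilb X x I₀).obj (dual k k) := ⟨idealSheafOf Φ, flatOver Φ, comap_incl Φ⟩
  obtain ⟨V, rfl⟩ := exists_open (XE x) U
  have hV : IsAffineOpen V := isAffineOpen_of_preimage _ hU
  obtain ⟨b, hb⟩ := exists_lift_toY ⟨_, hU⟩ (-(Φ' Φ _ s))
  have h2 := mem_idealOf_of Φ ⟨V, hV⟩ s b (by rw [hb, add_neg_cancel])
  have h3 : L.1.ideal ⟨V, hV⟩ = idealOf Φ ⟨V, hV⟩ := rfl
  rw [← h3, ← Scheme.IdealSheafData.ker_subschemeι_app, RingHom.mem_ker] at h2
  let W := gOf L ⁻¹ᵁ ((XE x).i ⁻¹ᵁ V)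
  have hle : W ≤ (ι' L) ⁻¹ᵁ V := i_le_of_le (objectOf L) (by
    rw [preimage_gOf, ← Scheme.Hom.comp_preimage, ← Scheme.Hom.comp_preimage]
    exact (congrArg (fun t => t ⁻¹ᵁ V) (objectOf_i_compat L)).ge)
  let J := ((ι' L).appLE V W hle).hom
  have hJ0 : J (pX V (OmegaSh.idealSect I₀ _ s) + baseS (XE x) V eps * pX V b) = 0 := by
    have h4 : (ι' L).app V ≫ (objectOf L).total.presheaf.map (homOfLE hle).op = (ι' L).appLE V W hle := rfl
    refine (ConcreteCategory.congr_hom h4 _).symm.trans ?_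
    exact (congrArg (ro hle) h2).trans (map_zero _)
  have hJp : ∀ a, J (pX V a) = (gOf L).app ((XE x).i ⁻¹ᵁ V) a := fun a => by
    have h4 : (prX x).appLE ((XE x).i ⁻¹ᵁ V) V (le_prX V) ≫ (ι' L).appLE V W hle =
        (gOf L).appLE ((XE x).i ⁻¹ᵁ V) W le_rfl := Scheme.Hom.appLE_comp_appLE _ _ _ _ _ _ _
    rw [Scheme.Hom.app_eq_appLE]
    exact ConcreteCategory.congr_hom h4 a
  rw [map_add, map_mul, hJp, hJp, show J (baseS (XE x) V eps) = baseS (objectOf L) W eps from
    appLE_baseS_comp (objectOf L) (ι' L) (XApr x (dual k k)) rfl hle eps] at hJ0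
  have h5 := psi_spec L ⟨_, hU⟩ s (-((gOf L).app ((XE x).i ⁻¹ᵁ V) b))
    (by rw [mul_neg, eq_neg_iff_add_eq_zero]; exact hJ0)
  rw [map_neg, red_gOf] at h5
  refine Eq.trans h5.symm ?_
  show -(toY _ b) = Φ' Φ _ s
  rw [hb, neg_neg]

end Groth.L14.LocHilb
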