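import Groth.Agent.L14.LocHilb.HilbPt
import Groth.Agent.L14.LocHilb.Surj
import Groth.Agent.L14.LocHilb.Push
import Groth.Agent.L14.LocHilb.Finite
import Groth.Agent.L16.HomSh.Adjunction

/-! # The tangent space of the Hilbert scheme at a point -/

set_option autoImplicit false
set_option linter.style.haveILetI false
set_option linter.unusedSectionVars false
set_option backward.isDefEq.respectTransparency.types false
set_option backward.isDefEq.respectTransparency false

universe u

open CategoryTheory CategoryTheory.Limits AlgebraicGeometry TopologicalSpace Opposite ArtFun ArtFun.Art IsLocalRing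

namespace Groth.L14.LocHilb

open Groth.L16.HomSh (homMod globalEquiv)

variable {k : Type u} [Field k]

section Dual

variable {P : Scheme.{u}} (π : P ⟶ specPt k) (σ : specPt k ⟶ P) (hσ : σ ≫ π = 𝟙 _)
  [Algebra k (St σ)] (halg : algebraMap k (St σ) = (stMap π σ).hom)

/-- A pair of functionals on the cotangent space as a point in `k[ε₁, ε₂]`. -/
noncomputable def ptOfPair (l l' : CotangentSpace (St σ) →ₗ[k] k) : StHom π σ (dual2 k k) where
  hom := CommRingCat.ofHom
    { toFun := fun s => (show TrivSqZeroExt k (k × k) from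
        ((stRes σ).hom s, (l (dcls π σ hσ halg s), l' (dcls π σ hσ halg s))))
      map_one' := TrivSqZeroExt.ext (map_one _) (by
        show (l (dcls π σ hσ halg 1), l' (dcls π σ hσ halg 1)) = (0 : k × k)
        rw [← map_one (algebraMap k (St σ)), dcls_algebraMap, map_zero, map_zero]
        rfl)
      map_zero' := TrivSqZeroExt.ext (map_zero _) (by
        show (l (dcls π σ hσ halg 0), l' (dcls π σ hσ halg 0)) = (0 : k × k)
        rw [← map_zero (algebraMap k (St σ)), dcls_algebraMap, map_zero, map_zero]
        rfl)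
      map_add' := fun a b => TrivSqZeroExt.ext (map_add _ a b) (by
        show (l (dcls π σ hσ halg (a + b)), l' (dcls π σ hσ halg (a + b))) =
          (l (dcls π σ hσ halg a), l' (dcls π σ hσ halg a)) + (l (dcls π σ hσ halg b), l' (dcls π σ hσ halg b))
        rw [dcls_add, map_add, map_add, Prod.mk_add_mk])
      map_mul' := fun a b => TrivSqZeroExt.ext (map_mul _ a b) (by
        show (l (dcls π σ hσ halg (a * b)), l' (dcls π σ hσ halg (a * b))) =
          (stRes σ).hom a • (l (dcls π σ hσ halg b), l' (dcls π σ hσ halg b)) +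
            MulOpposite.op ((stRes σ).hom b) • (l (dcls π σ hσ halg a), l' (dcls π σ hσ halg a))
        rw [dcls_mul, map_add, map_add, map_smul, map_smul, map_smul, map_smul, op_smul_eq_smul, Prod.smul_mk, Prod.smul_mk, Prod.mk_add_mk]
        refine Prod.ext ?_ ?_
        · exact add_comm _ _
        · exact add_comm _ _) }
  comm := CommRingCat.hom_ext (RingHom.ext fun c => TrivSqZeroExt.ext (ConcreteCategory.congr_hom (stMap_stRes π σ hσ) c) (by
    show (l (dcls π σ hσ halg ((stMap π σ).hom c)), l' (dcls π σ hσ halg ((stMap π σ).hom c))) =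
      TrivSqZeroExt.snd (TrivSqZeroExt.inl c : TrivSqZeroExt k (k × k))
    rw [← halg, dcls_algebraMap, map_zero, map_zero, TrivSqZeroExt.snd_inl]
    rfl))
  res := rfl

theorem ptOfPair_pr₁ (l l' : CotangentSpace (St σ) →ₗ[k] k) :
    (ptOfPair π σ hσ halg l l').map pr₁ = ptOfDual π σ hσ halg l := StHom.ext rfl

theorem ptOfPair_pr₂ (l l' : CotangentSpace (St σ) →ₗ[k] k) :
    (ptOfPair π σ hσ halg l l').map pr₂ = ptOfDual π σ hσ halg l' := StHom.ext rfl

theorem ptOfPair_plus (l l' : CotangentSpace (St σ) →ₗ[k] k) :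
    (ptOfPair π σ hσ halg l l').map plus = ptOfDual π σ hσ halg (l + l') := StHom.ext rfl

theorem ptOfDual_scale (c : k) (l : CotangentSpace (St σ) →ₗ[k] k) :
    (ptOfDual π σ hσ halg l).map (scale c) = ptOfDual π σ hσ halg (c • l) := StHom.ext rfl

end Dual

set_option maxHeartbeats 1000000 in
/-- The tangent space of the Hilbert scheme at `[X]` has the dimension of `H⁰` of the normal sheaf. -/
theorem finrank_tangent {Y : Scheme.{u}} (y : Y ⟶ specPt k) [IsProper y] {H : Over (specPt k)}
    (Z : FGA.HilbSet y H) (hH : FGA.HilbRepresentedBy y H Z) {X : Scheme.{u}}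
    [X.Over (Spec (CommRingCat.of k))] (i : X ⟶ Y) [IsClosedImmersion i]
    (hi : i ≫ y = X ↘ Spec (CommRingCat.of k)) [DCoh.HasSheafHom (Omega.conormal i)]
    (hpt : Over.mk (𝟙 (specPt k)) ⟶ H)
    (hh : FGA.hilbPull y hpt Z.1 = i.ker.comap (pullback.fst y (Over.mk (𝟙 (specPt k))).hom)) :
    Module.finrank (ResidueField (H.left.presheaf.stalk (hpt.left.base (closedPoint k))))
        (CotangentSpace (H.left.presheaf.stalk (hpt.left.base (closedPoint k)))) =
      Module.finrank k (Coh.HH X ((DCoh.sheafHom (Omega.conormal i)).obj (Coh.structureModule X)) 0) := by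
  let σ : specPt k ⟶ H.left := hpt.left
  let π : H.left ⟶ specPt k := H.hom
  have hσ : σ ≫ π = 𝟙 _ := Over.w hpt
  letI : Algebra k (St σ) := stAlg π σ
  have halg : algebraMap k (St σ) = (stMap π σ).hom := rfl
  refine (finrank_cotangent_eq π σ hσ halg).trans ?_
  let adj := Scheme.Modules.pullbackPushforwardAdjunction i
  haveI := adj.left_adjoint_additive
  let O := Coh.structureModule X
  let C := Omega.conormal i
  let e := adj.homEquiv (ClSub.idealMod i.ker) O
  let iso := (Groth.L16.HomSh.sheafHomIso C).app O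
  let E : (CotangentSpace (St σ) →ₗ[k] k) → (localHilb Y y i.ker).obj (dual k k) := fun l =>
    ofPt y Z hpt i.ker hh (ptOfDual π σ hσ halg l)
  have hE : Function.Bijective E :=
    (ofPt_bijective y Z hpt i.ker hh hH (dual k k)).comp (ptOfDual_bijective π σ hσ halg)
  have hadd : ∀ l l', psi (E (l + l')) = psi (E l) + psi (E l') := fun l l' => by
    have h := psi_add (ofPt y Z hpt i.ker hh (ptOfPair π σ hσ halg l l'))
    rw [← ofPt_map, ← ofPt_map, ← ofPt_map, ptOfPair_pr₁, ptOfPair_pr₂, ptOfPair_plus] at h
    exact h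
  have hsmul : ∀ (c : k) l, psi (E (c • l)) = psi (E l) ≫ mulQ (x := y) c := fun c l => by
    rw [← psi_scale, ← ofPt_map, ptOfDual_scale]
  let N : (ClSub.idealMod i.ker ⟶ ClSub.quotMod i.ker) → (C ⟶ O) := fun Φ => e.symm (Φ ≫ quotPush i)
  have hN : Function.Bijective N := e.symm.bijective.comp
    ⟨fun a b h => (cancel_mono (quotPush i)).mp h, fun g => ⟨g ≫ inv (quotPush i), by simp⟩⟩
  have hNadd : ∀ a b, N (a + b) = N a + N b := fun a b => by
    simp only [N, e, Adjunction.homEquiv_counit, Preadditive.add_comp, Functor.map_add]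
  let G : (C ⟶ O) → Γ((DCoh.sheafHom C).obj O, ⊤) := fun f => iso.inv.app ⊤ (globalEquiv C O f)
  have hG : Function.Bijective G :=
    (ConcreteCategory.bijective_of_isIso (iso.inv.app ⊤)).comp (globalEquiv C O).bijective
  let e₀ := Groth.L21.RR.e0 ((DCoh.sheafHom C).obj O)
  let T : (CotangentSpace (St σ) →ₗ[k] k) →ₗ[k] Coh.HH X ((DCoh.sheafHom C).obj O) 0 :=
    { toFun := fun l => e₀.symm (G (N (psi (E l))))
      map_add' := fun l l' => by
        simp only [G]
        rw [hadd, hNadd, map_add, map_add, map_add]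
      map_smul' := fun c l => by
        apply e₀.injective
        rw [RingHom.id_apply, Groth.L21.RR.e0_smul, AddEquiv.apply_symm_apply, AddEquiv.apply_symm_apply]
        refine Eq.trans ?_ (Scheme.Modules.Hom.app_smul iso.inv _ _)
        refine congrArg (fun t => iso.inv.app ⊤ t) ?_
        refine (congrArg (globalEquiv C O) ?_).trans (globalEquiv_smulModΓ (N (psi (E l))) _)
        show e.symm (psi (E (c • l)) ≫ quotPush i) = _
        rw [hsmul, Category.assoc, mulQ_quotPush i y _ hi, ← Category.assoc]
        exact adj.homEquiv_naturality_right_symm _ _ }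
  have hT : Function.Bijective T := by
    refine e₀.symm.bijective.comp (hG.comp (hN.comp (Function.Bijective.comp ⟨psi_injective, ?_⟩ hE)))
    exact fun Φ => psi_surjective Φ
  exact (LinearEquiv.ofBijective T hT).finrank_eq

end Groth.L14.LocHilb
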