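import Groth.Agent.L14.LocHilb.StalkPoint
import Groth.Agent.L01.AdicNoeth
import Mathlib.RingTheory.AdicCompletion.LocalRing
import Mathlib.AlgebraicGeometry.Noetherian
import Groth.Agent.L01.CompletionReg

/-! # Pro-representability of the local functor of a scheme at a rational point -/

set_option autoImplicit false
set_option linter.style.haveILetI false
set_option linter.unusedSectionVars false
set_option backward.isDefEq.respectTransparency.types false
set_option backward.isDefEq.respectTransparency false

universe u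

open CategoryTheory CategoryTheory.Limits AlgebraicGeometry ArtFun ArtFun.Art IsLocalRing

namespace Groth.L14.LocHilb

variable {k : Type u} [Field k]

/-- An augmented Noetherian local algebra and its completion have the same maps into Artinian algebras. -/
theorem exists_completion' {S : Type u} [CommRing S] [IsLocalRing S] [IsNoetherianRing S] [Algebra k S]
    (r : S →ₐ[k] k) :
    ∃ (R : CRing k k) (j : S →ₐ[k] R.carrier), R.res.comp j = r ∧
      ((IsRegularLocalRing R.carrier ↔ IsRegularLocalRing S) ∧ ringKrullDim R.carrier = ringKrullDim S ∧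
        Nonempty (R.carrier ≃+* AdicCompletion (maximalIdeal S) S)) ∧
      ∀ A : Art k k, Function.Bijective
        (fun φ : HomSet R.carrier R.res A => (⟨φ.1.comp j, by
          show A.res.comp (φ.1.comp j) = R.res.comp j
          rw [← AlgHom.comp_assoc, φ.2]⟩ : HomSet S (R.res.comp j) A)) := by
  set m := maximalIdeal S with hm
  have hfg : m.FG := IsNoetherian.noetherian m
  have hr : Function.Surjective r := fun c => ⟨algebraMap k S c, r.commutes c⟩
  have hker : RingHom.ker r.toRingHom = m := by
    haveI := RingHom.ker_isMaximal_of_surjective r.toRingHom hr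
    exact IsLocalRing.eq_maximalIdeal inferInstance
  haveI : IsNoetherianRing (AdicCompletion m S) := Groth.L01.AdicNoeth.isNoetherianRing_adicCompletion m hfg
  let j : S →ₐ[k] AdicCompletion m S := (Algebra.ofId S (AdicCompletion m S)).restrictScalars k
  let rC : AdicCompletion m S →ₐ[k] k :=
    (Ideal.Quotient.liftₐ m r fun a ha => by rw [← hker] at ha; exact ha).comp
      ((AdicCompletion.evalOneₐ m).restrictScalars k)
  have hrC : ∀ a : S, rC (j a) = r a := fun a => by
    show Ideal.Quotient.liftₐ m r (fun a ha => by rw [← hker] at ha; exact ha)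
      (AdicCompletion.evalOneₐ m (algebraMap S (AdicCompletion m S) a)) = _
    rw [AlgHom.commutes]
    rfl
  let R : CRing k k :=
    { carrier := AdicCompletion m S
      res := rC
      res_surjective := fun t => ⟨j (algebraMap k S t), by rw [hrC, r.commutes]; rfl⟩
      isAdicComplete := inferInstance }
  refine ⟨R, j, AlgHom.ext hrC, ⟨(Groth.L01.CompletionReg.isRegularLocalRing_iff_completion S).symm,
    Groth.L01.CompletionReg.ringKrullDim_completion S, ⟨RingEquiv.refl _⟩⟩, fun A => ?_⟩
  have hkerC : RingHom.ker rC.toRingHom = maximalIdeal (AdicCompletion m S) := by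
    haveI := RingHom.ker_isMaximal_of_surjective rC.toRingHom R.res_surjective
    exact IsLocalRing.eq_maximalIdeal inferInstance
  have hmA : ∀ a : A, A.res a = 0 → a ∈ maximalIdeal A := fun a ha => (A.mem_maximalIdeal_iff a).mpr ha
  obtain ⟨N, hN⟩ := IsArtinianRing.isNilpotent_jacobson_bot (R := A)
  rw [IsLocalRing.jacobson_eq_maximalIdeal ⊥ bot_ne_top] at hN
  have hK : ∀ z : AdicCompletion m S, AdicCompletion.evalₐ m N z = 0 →
      z ∈ maximalIdeal (AdicCompletion m S) ^ N := fun z hz => by
    have h0 : AdicCompletion.eval m S N z = 0 := by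
      rw [← AdicCompletion.factor_evalₐ_eq_eval m z (by simp), hz, map_zero]
    have h1 : z ∈ m ^ N • (⊤ : Submodule S (AdicCompletion m S)) := by
      rw [AdicCompletion.pow_smul_top_eq_ker_eval hfg]
      exact h0
    rw [AdicCompletion.maximalIdeal_eq_map, ← Ideal.map_pow, ← Submodule.restrictScalars_mem S,
      ← Ideal.smul_top_eq_map]
    exact h1
  have hkill : ∀ φ : HomSet R.carrier R.res A, ∀ z, z ∈ maximalIdeal (AdicCompletion m S) ^ N → φ.1 z = 0 := by
    intro φ z hz
    have hle : (maximalIdeal (AdicCompletion m S)).map φ.1.toRingHom ≤ maximalIdeal A := Ideal.map_le_iff_le_comap.mpr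
      fun w hw => by
        rw [← hkerC, RingHom.mem_ker] at hw
        exact hmA _ ((AlgHom.congr_fun φ.2 w).trans hw)
    have h1 : φ.1 z ∈ ((maximalIdeal (AdicCompletion m S)) ^ N).map φ.1.toRingHom :=
      Ideal.mem_map_of_mem φ.1.toRingHom hz
    rw [Ideal.map_pow] at h1
    have h2 := Ideal.pow_right_mono hle N h1
    rw [hN] at h2
    exact h2
  constructor
  · intro φ ψ h
    refine Subtype.ext (AlgHom.ext fun z => ?_)
    obtain ⟨s, hs⟩ := Ideal.Quotient.mk_surjective (AdicCompletion.evalₐ m N z)
    have hz : z - j s ∈ maximalIdeal (AdicCompletion m S) ^ N := hK _ (by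
      rw [map_sub, ← hs, sub_eq_zero]
      exact (AlgHom.commutes (AdicCompletion.evalₐ m N) s).symm)
    have h1 := hkill φ _ hz
    have h2 := hkill ψ _ hz
    rw [map_sub, sub_eq_zero] at h1 h2
    rw [h1, h2]
    exact AlgHom.congr_fun (congrArg Subtype.val h) s
  · intro g
    have hg : ∀ a ∈ m ^ N, g.1 a = 0 := fun a ha => by
      have hle : m.map g.1.toRingHom ≤ maximalIdeal A := Ideal.map_le_iff_le_comap.mpr fun w hw => by
        refine hmA _ ((AlgHom.congr_fun g.2 w).trans ?_)
        show R.res (j w) = 0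
        rw [show R.res (j w) = r w from hrC w]
        rw [← hker] at hw
        exact hw
      have h1 : g.1 a ∈ (m ^ N).map g.1.toRingHom := Ideal.mem_map_of_mem g.1.toRingHom ha
      rw [Ideal.map_pow] at h1
      have h2 := Ideal.pow_right_mono hle N h1
      rw [hN] at h2
      exact h2
    let φ : AdicCompletion m S →ₐ[k] A :=
      (Ideal.Quotient.liftₐ (m ^ N) g.1 hg).comp ((AdicCompletion.evalₐ m N).restrictScalars k)
    have hφj : ∀ s, φ (j s) = g.1 s := fun s => by
      show Ideal.Quotient.liftₐ (m ^ N) g.1 hg (AdicCompletion.evalₐ m N (algebraMap S (AdicCompletion m S) s)) = _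
      rw [AlgHom.commutes]
      rfl
    refine ⟨⟨φ, AlgHom.ext fun z => ?_⟩, Subtype.ext (AlgHom.ext hφj)⟩
    show A.res (φ z) = R.res z
    have hφm : (maximalIdeal (AdicCompletion m S)).map φ.toRingHom ≤ maximalIdeal A := by
      rw [AdicCompletion.maximalIdeal_eq_map, Ideal.map_map]
      refine Ideal.map_le_iff_le_comap.mpr fun a ha => ?_
      show φ (j a) ∈ maximalIdeal A
      rw [hφj]
      refine hmA _ ((AlgHom.congr_fun g.2 a).trans ?_)
      show R.res (j a) = 0
      rw [← hm, ← hker] at ha
      exact (hrC a).trans ha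
    have hw : z - j (algebraMap k S (rC z)) ∈ maximalIdeal (AdicCompletion m S) := by
      rw [← hkerC, RingHom.mem_ker]
      show rC (z - j (algebraMap k S (rC z))) = 0
      rw [map_sub, hrC, r.commutes]
      exact sub_self _
    have h1 := (A.mem_maximalIdeal_iff _).mp (hφm (Ideal.mem_map_of_mem φ.toRingHom hw))
    show A.res (φ z) = rC z
    have h2 : A.res (φ (j (algebraMap k S (rC z)))) = rC z := by
      rw [hφj, g.1.commutes, A.res.commutes]
      rfl
    rw [← h2, ← sub_eq_zero, ← map_sub, ← map_sub]
    exact h1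

theorem exists_completion {S : Type u} [CommRing S] [IsLocalRing S] [IsNoetherianRing S] [Algebra k S]
    (r : S →ₐ[k] k) :
    ∃ (R : CRing k k) (j : S →ₐ[k] R.carrier), R.res.comp j = r ∧
      ∀ A : Art k k, Function.Bijective
        (fun φ : HomSet R.carrier R.res A => (⟨φ.1.comp j, by
          show A.res.comp (φ.1.comp j) = R.res.comp j
          rw [← AlgHom.comp_assoc, φ.2]⟩ : HomSet S (R.res.comp j) A)) :=
  let ⟨R, j, h, _, hb⟩ := exists_completion' r
  ⟨R, j, h, hb⟩

set_option maxHeartbeats 1000000 in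
/-- The local functor of a locally Noetherian scheme at a rational point is pro-represented by the completed local ring. -/
theorem exists_prorep_point (M : Scheme.{u}) (m : M ⟶ specPt k) [IsLocallyNoetherian M]
    (x₀ : specPt k ⟶ M) (hx₀ : x₀ ≫ m = 𝟙 _) :
    ∃ (R : CRing k k) (e : ∀ A : Art k k, HomSet R.carrier R.res A ≃
        {g : spec A ⟶ M // g ≫ m = specMap (ofBase A) ∧ specRes A ≫ g = x₀}),
      ∀ (A B : Art k k) (h : A ⟶ B) (φ : HomSet R.carrier R.res A),
        ((e B) (HomSet.map h φ)).1 = specMap h ≫ ((e A) φ).1 := by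
  classical
  let σ : specPt k ⟶ M := x₀
  letI : Algebra k (St σ) := stAlg m σ
  let r : St σ →ₐ[k] k :=
    { (stRes σ).hom with
      commutes' := fun c => stRes_algebraMap m σ hx₀ rfl c }
  haveI : IsNoetherianRing (St σ) :=
    inferInstanceAs (IsNoetherianRing (M.presheaf.stalk (σ (IsLocalRing.closedPoint k))))
  obtain ⟨R, j, hj, hb⟩ := exists_completion r
  let toSt : ∀ A : Art k k, HomSet R.carrier R.res A → StHom m σ A := fun A φ =>
    { hom := CommRingCat.ofHom (φ.1.comp j).toRingHom
      comm := CommRingCat.hom_ext (RingHom.ext fun c => (φ.1.comp j).commutes c)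
      res := CommRingCat.hom_ext (RingHom.ext fun s =>
        (AlgHom.congr_fun φ.2 (j s)).trans (AlgHom.congr_fun hj s)) }
  have hto : ∀ A, Function.Bijective (toSt A) := fun A => by
    refine ⟨fun φ ψ h => (hb A).1 (Subtype.ext (AlgHom.ext fun s => ?_)), fun ψ => ?_⟩
    · exact congrArg (fun θ : StHom m σ A => θ.hom s) h
    · let g : HomSet (St σ) (R.res.comp j) A :=
        ⟨{ ψ.hom.hom with commutes' := fun c => ConcreteCategory.congr_hom ψ.comm c },
          hj.symm ▸ AlgHom.ext fun s => ConcreteCategory.congr_hom ψ.res s⟩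
      obtain ⟨φ, hφ⟩ := (hb A).2 g
      exact ⟨φ, StHom.ext (CommRingCat.hom_ext (RingHom.ext fun s =>
        AlgHom.congr_fun (congrArg Subtype.val hφ) s))⟩
  let e : ∀ A : Art k k, HomSet R.carrier R.res A →
      {g : spec A ⟶ M // g ≫ m = specMap (ofBase A) ∧
        specRes A ≫ g = x₀} := fun A φ =>
    ⟨(toSt A φ).pt, (toSt A φ).pt_π, (toSt A φ).specRes_pt⟩
  have he : ∀ A, Function.Bijective (e A) := fun A => by
    refine ⟨fun φ ψ h => (hto A).1 (StHom.pt_injective (congrArg Subtype.val h)), fun g => ?_⟩
    obtain ⟨θ, hθ⟩ := StHom.exists_pt g.1 g.2.1 g.2.2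
    obtain ⟨φ, hφ⟩ := (hto A).2 θ
    exact ⟨φ, Subtype.ext ((congrArg StHom.pt hφ).trans hθ)⟩
  refine ⟨R, fun A => Equiv.ofBijective (e A) (he A), fun A B h φ => ?_⟩
  exact (congrArg StHom.pt (StHom.ext rfl :
    toSt B (HomSet.map h φ) = (toSt A φ).map h)).trans ((toSt A φ).pt_map h)

end Groth.L14.LocHilb
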