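import Groth.Agent.L14.LocHilb.HilbTangent

/-! # The tangent space of the local Hilbert functor -/

set_option autoImplicit false
set_option linter.style.haveILetI false
set_option linter.unusedSectionVars false
set_option backward.isDefEq.respectTransparency.types false
set_option backward.isDefEq.respectTransparency false

universe u

open CategoryTheory CategoryTheory.Limits AlgebraicGeometry TopologicalSpace Opposite ArtFun ArtFun.Art

namespace Groth.L14.LocHilb

open Groth.L16.HomSh (homMod globalEquiv)

variable {k : Type u} [Field k] {Y : Scheme.{u}} (y : Y ⟶ specPt k)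

set_option maxHeartbeats 800000 in
theorem tangentEquiv_ker {X : Scheme.{u}} [X.Over (Spec (CommRingCat.of k))] (i : X ⟶ Y) [IsClosedImmersion i]
    (hi : i ≫ y = X ↘ Spec (CommRingCat.of k)) [DCoh.HasSheafHom (Omega.conormal i)]
    [TangentStr (localHilb Y y i.ker)] :
    Nonempty (TangentSpace (localHilb Y y i.ker) ≃ₗ[k]
      Coh.HH X ((DCoh.sheafHom (Omega.conormal i)).obj (Coh.structureModule X)) 0) := by
  let adj := Scheme.Modules.pullbackPushforwardAdjunction i
  haveI := adj.left_adjoint_additive
  let O := Coh.structureModule X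
  let C := Omega.conormal i
  let e := adj.homEquiv (ClSub.idealMod i.ker) O
  let iso := (Groth.L16.HomSh.sheafHomIso C).app O
  let N : (ClSub.idealMod i.ker ⟶ ClSub.quotMod i.ker) → (C ⟶ O) := fun Φ => e.symm (Φ ≫ quotPush i)
  have hN : Function.Bijective N := e.symm.bijective.comp
    ⟨fun a b h => (cancel_mono (quotPush i)).mp h, fun g => ⟨g ≫ inv (quotPush i), by simp⟩⟩
  have hNadd : ∀ a b, N (a + b) = N a + N b := fun a b => by
    simp only [N, e, Adjunction.homEquiv_counit, Preadditive.add_comp, Functor.map_add]
  let G : (C ⟶ O) → Γ((DCoh.sheafHom C).obj O, ⊤) := fun f => iso.inv.app ⊤ (globalEquiv C O f)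
  have hG : Function.Bijective G :=
    (ConcreteCategory.bijective_of_isIso (iso.inv.app ⊤)).comp (globalEquiv C O).bijective
  let e₀ := Groth.L21.RR.e0 ((DCoh.sheafHom C).obj O)
  let F := localHilb Y y i.ker
  have hsurj := bijective_cmp (X := Y) (x := y) (I₀ := i.ker) (ArtFun.Art.isFibreProd_dual2 (Λ := k) (k := k))
    (dual k k).res_surjective
  have hadd : ∀ I K : TangentSpace F, psi (I + K).val = psi I.val + psi K.val := fun I K => by
    obtain ⟨z, h1, h2⟩ := (Groth.L12.cmp_surj_iff F ArtFun.Art.isFibreProd_dual2).1 hsurj.2 I.val K.val (by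
      haveI : Subsingleton (F.obj (Art.base k k)) := ⟨fun a b => Subtype.ext (by
        haveI : IsIso (XAincl y (Art.base k k)) :=
          (isPullback_XAincl y (Art.base k k)).isIso_fst_of_isIso
        have h : ∀ L : F.obj (Art.base k k), L.1 = i.ker.comap (inv (XAincl y (Art.base k k))) := fun L =>
          (show L.1 = (L.1.comap (XAincl y (Art.base k k))).comap (inv (XAincl y (Art.base k k))) by
            rw [← Scheme.IdealSheafData.comap_comp, IsIso.inv_hom_id, Scheme.IdealSheafData.comap_id]).trans
            (congrArg (fun M => Scheme.IdealSheafData.comap M (inv (XAincl y (Art.base k k)))) L.2.2)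
        rw [h a, h b])⟩
      exact Subsingleton.elim _ _)
    have h3 : (I + K).val = F.map plus z := by
      subst h1 h2
      exact TangentStr.add_eq z
    rw [h3, psi_add, h1, h2]
  have hsmul : ∀ (c : k) (I : TangentSpace F), psi (c • I).val = psi I.val ≫ mulQ (x := y) c := fun c I => by
    rw [show (c • I).val = F.map (scale c) I.val from TangentStr.smul_eq c I.val, psi_scale]
  let T : TangentSpace F →ₗ[k] Coh.HH X ((DCoh.sheafHom C).obj O) 0 :=
    { toFun := fun I => e₀.symm (G (N (psi I.val)))
      map_add' := fun I K => by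
        simp only [G]
        rw [hadd, hNadd, map_add, map_add, map_add]
      map_smul' := fun c I => by
        apply e₀.injective
        rw [RingHom.id_apply, Groth.L21.RR.e0_smul, AddEquiv.apply_symm_apply, AddEquiv.apply_symm_apply]
        refine Eq.trans ?_ (Scheme.Modules.Hom.app_smul iso.inv _ _)
        refine congrArg (fun t => iso.inv.app ⊤ t) ?_
        refine (congrArg (globalEquiv C O) ?_).trans (globalEquiv_smulModΓ (N (psi I.val)) _)
        show e.symm (psi (c • I).val ≫ quotPush i) = _
        rw [hsmul, Category.assoc, mulQ_quotPush i y _ hi, ← Category.assoc]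
        exact adj.homEquiv_naturality_right_symm _ _ }
  have hT : Function.Bijective T := by
    refine e₀.symm.bijective.comp (hG.comp (hN.comp ⟨psi_injective, ?_⟩))
    exact fun Φ => psi_surjective Φ
  exact ⟨LinearEquiv.ofBijective T hT⟩

theorem tangentEquiv (I₀ : Y.IdealSheafData) [I₀.subscheme.Over (Spec (CommRingCat.of k))]
    (hY : I₀.subscheme ↘ Spec (CommRingCat.of k) = I₀.subschemeι ≫ y)
    [DCoh.HasSheafHom (Omega.conormal I₀.subschemeι)] [h : TangentStr (localHilb Y y I₀)] :
    Nonempty (TangentSpace (localHilb Y y I₀) ≃ₗ[k]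
      Coh.HH I₀.subscheme ((DCoh.sheafHom (Omega.conormal I₀.subschemeι)).obj (Coh.structureModule I₀.subscheme)) 0) := by
  have key : ∀ (J : Y.IdealSheafData), I₀.subschemeι.ker = J → ∀ [TangentStr (localHilb Y y J)],
      Nonempty (TangentSpace (localHilb Y y J) ≃ₗ[k]
        Coh.HH I₀.subscheme ((DCoh.sheafHom (Omega.conormal I₀.subschemeι)).obj (Coh.structureModule I₀.subscheme)) 0) := by
    intro J hJ
    subst hJ
    intro _
    exact tangentEquiv_ker y I₀.subschemeι hY.symm
  exact key I₀ (Scheme.IdealSheafData.ker_subschemeι I₀)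

end Groth.L14.LocHilb
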