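import Groth.Prelude.Def_ArtFun6
import Mathlib.AlgebraicGeometry.Stalk
import Mathlib.AlgebraicGeometry.Morphisms.Preimmersion
import Mathlib.RingTheory.Ideal.Cotangent
import Mathlib.RingTheory.TensorProduct.Free
import Mathlib.LinearAlgebra.Dual.Lemmas

/-! # Points of a scheme with values in Artinian rings through the stalk at a rational point -/

set_option autoImplicit false
set_option linter.style.haveILetI false
set_option linter.unusedSectionVars false
set_option backward.isDefEq.respectTransparency.types false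
set_option backward.isDefEq.respectTransparency false

universe u

open CategoryTheory CategoryTheory.Limits AlgebraicGeometry ArtFun ArtFun.Art IsLocalRing

namespace Groth.L14.LocHilb

variable {k : Type u} [Field k] {P : Scheme.{u}} (π : P ⟶ specPt k) (σ : specPt k ⟶ P) (hσ : σ ≫ π = 𝟙 _)

/-- The local ring at the point. -/
noncomputable abbrev St : CommRingCat.{u} := P.presheaf.stalk (σ (closedPoint k))

/-- The residue map at the point. -/
noncomputable def stRes : St σ ⟶ CommRingCat.of k := Scheme.stalkClosedPointTo σ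

/-- The structure map of the stalk. -/
noncomputable def stMap : CommRingCat.of k ⟶ St σ := Spec.preimage (P.fromSpecStalk (σ (closedPoint k)) ≫ π)

theorem specMap_stRes : Spec.map (stRes σ) ≫ P.fromSpecStalk (σ (closedPoint k)) = σ :=
  Scheme.Spec_stalkClosedPointTo_fromSpecStalk (f := σ)

theorem specMap_stMap : Spec.map (stMap π σ) = P.fromSpecStalk (σ (closedPoint k)) ≫ π := Spec.map_preimage _

include hσ in
theorem stMap_stRes : stMap π σ ≫ stRes σ = 𝟙 _ := by
  apply Spec.map_injective
  rw [Spec.map_comp, specMap_stMap, ← Category.assoc, specMap_stRes, hσ, Spec.map_id]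

/-- The `k`-algebra structure of the stalk. -/
@[reducible] noncomputable def stAlg : Algebra k (St σ) := (stMap π σ).hom.toAlgebra

/-- A local map out of the stalk with values in an Artinian algebra. -/
structure StHom (A : Art k k) where
  /-- the map -/
  hom : St σ ⟶ CommRingCat.of A
  comm : stMap π σ ≫ hom = CommRingCat.ofHom (algebraMap k A)
  res : hom ≫ CommRingCat.ofHom A.res.toRingHom = stRes σ

variable {π σ}

theorem StHom.ext {A : Art k k} {φ ψ : StHom π σ A} (h : φ.hom = ψ.hom) : φ = ψ := by
  obtain ⟨a, _, _⟩ := φ; obtain ⟨b, _, _⟩ := ψ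
  obtain rfl : a = b := h
  rfl

/-- Functoriality. -/
noncomputable def StHom.map {A B : Art k k} (μ : A ⟶ B) (φ : StHom π σ A) : StHom π σ B where
  hom := φ.hom ≫ CommRingCat.ofHom μ.toAlgHom.toRingHom
  comm := by
    rw [← Category.assoc, φ.comm, ← CommRingCat.ofHom_comp]
    exact congrArg CommRingCat.ofHom (RingHom.ext fun c => μ.toAlgHom.commutes c)
  res := by
    refine Eq.trans ?_ φ.res
    rw [Category.assoc, ← CommRingCat.ofHom_comp]
    exact congrArg (fun f => φ.hom ≫ CommRingCat.ofHom f) (congrArg AlgHom.toRingHom μ.res_comp)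

/-- The morphism of a stalk map. -/
noncomputable def StHom.pt {A : Art k k} (φ : StHom π σ A) : spec A ⟶ P :=
  Spec.map φ.hom ≫ P.fromSpecStalk (σ (closedPoint k))

theorem StHom.pt_π {A : Art k k} (φ : StHom π σ A) : φ.pt ≫ π = specOver A := by
  rw [pt, Category.assoc, ← specMap_stMap, ← Spec.map_comp, φ.comm]
  rfl

theorem StHom.specRes_pt {A : Art k k} (φ : StHom π σ A) : specRes A ≫ φ.pt = σ := by
  rw [pt, ← Category.assoc, specRes, ← Spec.map_comp, φ.res, specMap_stRes]

theorem StHom.pt_map {A B : Art k k} (μ : A ⟶ B) (φ : StHom π σ A) : (φ.map μ).pt = specMap μ ≫ φ.pt := by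
  rw [pt, map, Spec.map_comp, pt, Category.assoc]

theorem StHom.pt_injective {A : Art k k} : Function.Injective (StHom.pt : StHom π σ A → _) := fun φ ψ h =>
  StHom.ext (Spec.map_injective ((cancel_mono (P.fromSpecStalk (σ (closedPoint k)))).mp h))

theorem exists_fac {R : CommRingCat.{u}} [IsLocalRing R] (t : Spec R ⟶ P) {p : P} (h : t (closedPoint R) = p) :
    ∃ φ : P.presheaf.stalk p ⟶ R, Spec.map φ ≫ P.fromSpecStalk p = t := by
  subst h
  exact ⟨Scheme.stalkClosedPointTo t, Scheme.Spec_stalkClosedPointTo_fromSpecStalk (f := t)⟩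

theorem StHom.exists_pt {A : Art k k} (t : spec A ⟶ P) (h₁ : t ≫ π = specOver A) (h₂ : specRes A ≫ t = σ) :
    ∃ φ : StHom π σ A, φ.pt = t := by
  have hcp : specRes A (closedPoint k) = closedPoint A := by
    haveI : IsLocalHom A.res.toRingHom := Function.Surjective.isLocalHom _ A.res_surjective
    exact IsLocalRing.comap_closedPoint A.res.toRingHom
  obtain ⟨φ, hφ⟩ := exists_fac t (p := σ (closedPoint k)) (by rw [← h₂, Scheme.Hom.comp_apply, hcp])
  refine ⟨⟨φ, ?_, ?_⟩, hφ⟩
  · apply Spec.map_injective
    rw [Spec.map_comp, specMap_stMap, ← Category.assoc, hφ, h₁]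
    rfl
  · apply Spec.map_injective
    rw [← cancel_mono (P.fromSpecStalk (σ (closedPoint k))), Spec.map_comp, Category.assoc, hφ, specMap_stRes]
    exact h₂

section Tangent

variable (π σ) [Algebra k (St σ)] (halg : algebraMap k (St σ) = (stMap π σ).hom)

include hσ halg in
set_option maxHeartbeats 400000 in
theorem stRes_algebraMap (c : k) : (stRes σ).hom (algebraMap k (St σ) c) = c :=
  by rw [halg, ← RingHom.comp_apply, ← CommRingCat.hom_comp, stMap_stRes π σ hσ, CommRingCat.hom_id]; rfl

include hσ halg in
theorem ker_stRes : RingHom.ker (stRes σ).hom = maximalIdeal (St σ) := by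
  haveI := RingHom.ker_isMaximal_of_surjective (stRes σ).hom fun c => ⟨_, stRes_algebraMap π σ hσ halg c⟩
  exact IsLocalRing.eq_maximalIdeal inferInstance

include hσ halg in
theorem sub_mem_max (s : St σ) : s - algebraMap k (St σ) ((stRes σ).hom s) ∈ maximalIdeal (St σ) := by
  rw [← ker_stRes π σ hσ halg, RingHom.mem_ker, map_sub, stRes_algebraMap π σ hσ halg, sub_self]

/-- The class in the cotangent space. -/
noncomputable def dcls (s : St σ) : CotangentSpace (St σ) :=
  (maximalIdeal (St σ)).toCotangent ⟨s - algebraMap k (St σ) ((stRes σ).hom s), sub_mem_max π σ hσ halg s⟩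

theorem dcls_add (s t : St σ) : dcls π σ hσ halg (s + t) = dcls π σ hσ halg s + dcls π σ hσ halg t := by
  unfold dcls
  rw [← map_add]
  congr 1
  refine Subtype.ext ?_
  simp only [map_add, AddMemClass.mk_add_mk]
  ring

theorem dcls_algebraMap (c : k) : dcls π σ hσ halg (algebraMap k (St σ) c) = 0 := by
  unfold dcls
  rw [← map_zero (maximalIdeal (St σ)).toCotangent]
  congr 1
  refine Subtype.ext ?_
  simp [stRes_algebraMap π σ hσ halg]

theorem dcls_mul (s t : St σ) :
    dcls π σ hσ halg (s * t) = (stRes σ).hom t • dcls π σ hσ halg s + (stRes σ).hom s • dcls π σ hσ halg t := by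
  unfold dcls
  rw [← LinearMap.map_smul_of_tower, ← LinearMap.map_smul_of_tower, ← map_add, Ideal.toCotangent_eq, pow_two]
  have h := Ideal.mul_mem_mul (sub_mem_max π σ hσ halg s) (sub_mem_max π σ hσ halg t)
  convert h using 1
  simp only [Submodule.coe_add, SetLike.val_smul_of_tower, Algebra.smul_def, map_mul]
  ring

theorem dcls_surjective : Function.Surjective (dcls π σ hσ halg) := fun z => by
  obtain ⟨⟨y, hy⟩, rfl⟩ := (maximalIdeal (St σ)).toCotangent_surjective z
  refine ⟨y, ?_⟩
  unfold dcls
  congr 1
  refine Subtype.ext ?_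
  rw [← ker_stRes π σ hσ halg, RingHom.mem_ker] at hy
  simp [hy]

/-- The dual-number point of a functional on the cotangent space. -/
noncomputable def ptOfDual (l : CotangentSpace (St σ) →ₗ[k] k) : StHom π σ (dual k k) where
  hom := CommRingCat.ofHom
    { toFun := fun s => (show DualNumber k from ((stRes σ).hom s, l (dcls π σ hσ halg s)))
      map_one' := TrivSqZeroExt.ext (map_one _) (by
        show l (dcls π σ hσ halg 1) = 0
        rw [← map_one (algebraMap k (St σ)), dcls_algebraMap, map_zero])
      map_zero' := TrivSqZeroExt.ext (map_zero _) (by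
        show l (dcls π σ hσ halg 0) = 0
        rw [← map_zero (algebraMap k (St σ)), dcls_algebraMap, map_zero])
      map_add' := fun a b => TrivSqZeroExt.ext (map_add _ a b) (by
        show l (dcls π σ hσ halg (a + b)) = l (dcls π σ hσ halg a) + l (dcls π σ hσ halg b)
        rw [dcls_add, map_add])
      map_mul' := fun a b => TrivSqZeroExt.ext (map_mul _ a b) (by
        show l (dcls π σ hσ halg (a * b)) =
          (stRes σ).hom a • l (dcls π σ hσ halg b) + MulOpposite.op ((stRes σ).hom b) • l (dcls π σ hσ halg a)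
        rw [dcls_mul, map_add, map_smul, map_smul, op_smul_eq_smul, add_comm]) }
  comm := CommRingCat.hom_ext (RingHom.ext fun c => TrivSqZeroExt.ext (ConcreteCategory.congr_hom (stMap_stRes π σ hσ) c) (by
    show l (dcls π σ hσ halg ((stMap π σ).hom c)) = TrivSqZeroExt.snd (TrivSqZeroExt.inl c : DualNumber k)
    rw [← halg, dcls_algebraMap, map_zero, TrivSqZeroExt.snd_inl]))
  res := rfl

theorem ptOfDual_bijective : Function.Bijective (ptOfDual π σ hσ halg) := by
  refine ⟨fun l l' h => LinearMap.ext fun z => ?_, fun φ => ?_⟩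
  · obtain ⟨s, rfl⟩ := dcls_surjective π σ hσ halg z
    exact congrArg TrivSqZeroExt.snd (congrArg (fun f : St σ ⟶ CommRingCat.of (dual k k) => (f s : DualNumber k))
      (congrArg StHom.hom h))
  · let f : St σ →+* DualNumber k := φ.hom.hom
    have hc : ∀ c, f (algebraMap k (St σ) c) = TrivSqZeroExt.inl c := fun c => (congrArg f (RingHom.congr_fun halg c)).trans (ConcreteCategory.congr_hom φ.comm c)
    have hfst : ∀ s, TrivSqZeroExt.fst (f s) = (stRes σ).hom s := fun s => ConcreteCategory.congr_hom φ.res s
    let δ : maximalIdeal (St σ) →ₗ[k] k :=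
      { toFun := fun y => TrivSqZeroExt.snd (f y)
        map_add' := fun a b => (congrArg TrivSqZeroExt.snd (map_add f _ _)).trans (TrivSqZeroExt.snd_add _ _)
        map_smul' := fun c a => by
          show TrivSqZeroExt.snd (f (c • (a : St σ))) = c • TrivSqZeroExt.snd (f a)
          rw [Algebra.smul_def, map_mul, hc, TrivSqZeroExt.snd_mul, TrivSqZeroExt.fst_inl, TrivSqZeroExt.snd_inl,
            smul_zero, add_zero] }
    have hsq : ∀ y : maximalIdeal (St σ), (y : St σ) ∈ maximalIdeal (St σ) ^ 2 → δ y = 0 := by
      rintro ⟨y, hy'⟩ hy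
      show TrivSqZeroExt.snd (f y) = 0
      rw [pow_two] at hy
      refine Submodule.mul_induction_on (C := fun z => TrivSqZeroExt.snd (f z) = 0) hy
        (fun a ha b hb => ?_) fun a b ha hb => ?_
      · rw [← ker_stRes π σ hσ halg, RingHom.mem_ker, ← hfst] at ha hb
        rw [map_mul, TrivSqZeroExt.snd_mul, ha, hb, zero_smul, MulOpposite.op_zero, zero_smul, add_zero]
      · rw [map_add, TrivSqZeroExt.snd_add, ha, hb, add_zero]
    have hwd : ∀ y y', (maximalIdeal (St σ)).toCotangent y = (maximalIdeal (St σ)).toCotangent y' → δ y = δ y' :=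
      fun y y' h => by
        rw [← sub_eq_zero, ← map_sub]
        exact hsq _ ((Ideal.toCotangent_eq _).mp h)
    let sec := Function.surjInv (maximalIdeal (St σ)).toCotangent_surjective
    have hsec : ∀ z, (maximalIdeal (St σ)).toCotangent (sec z) = z :=
      Function.surjInv_eq (maximalIdeal (St σ)).toCotangent_surjective
    let l : CotangentSpace (St σ) →ₗ[k] k :=
      { toFun := fun z => δ (sec z)
        map_add' := fun a b => by
          rw [← map_add]
          exact hwd _ _ (by rw [map_add, hsec, hsec, hsec])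
        map_smul' := fun c a => by
          rw [RingHom.id_apply, ← map_smul]
          exact hwd _ _ (by rw [LinearMap.map_smul_of_tower, hsec, hsec]) }
    refine ⟨l, StHom.ext (CommRingCat.hom_ext (RingHom.ext fun s => TrivSqZeroExt.ext (hfst s).symm ?_))⟩
    show δ (sec (dcls π σ hσ halg s)) = TrivSqZeroExt.snd (f s)
    rw [hwd (sec (dcls π σ hσ halg s)) ⟨_, sub_mem_max π σ hσ halg s⟩ (hsec _)]
    show TrivSqZeroExt.snd (f (s - algebraMap k (St σ) ((stRes σ).hom s))) = _
    rw [map_sub, hc, TrivSqZeroExt.snd_sub, TrivSqZeroExt.snd_inl, sub_zero]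

include hσ halg in
theorem finrank_cotangent_eq : Module.finrank (ResidueField (St σ)) (CotangentSpace (St σ)) =
    Module.finrank k (CotangentSpace (St σ) →ₗ[k] k) := by
  have hb : Function.Bijective (algebraMap k (ResidueField (St σ))) := by
    refine ⟨(algebraMap k (ResidueField (St σ))).injective, fun z => ?_⟩
    obtain ⟨s, rfl⟩ := IsLocalRing.residue_surjective z
    refine ⟨(stRes σ).hom s, ?_⟩
    rw [IsScalarTower.algebraMap_apply k (St σ) (ResidueField (St σ)), ResidueField.algebraMap_eq, eq_comm,
      ← sub_eq_zero, ← map_sub, residue_eq_zero_iff]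
    exact sub_mem_max π σ hσ halg s
  haveI : IsScalarTower k (ResidueField (St σ)) (CotangentSpace (St σ)) := IsScalarTower.of_algebraMap_smul fun c z => by
    rw [IsScalarTower.algebraMap_apply k (St σ) (ResidueField (St σ)), ← IsScalarTower.algebraMap_smul (St σ) c z]
    exact IsScalarTower.algebraMap_smul (ResidueField (St σ)) (algebraMap k (St σ) c) z
  rw [Subspace.dual_finrank_eq, ← Module.finrank_mul_finrank k (ResidueField (St σ)) (CotangentSpace (St σ)),
    ← (LinearEquiv.ofBijective (Algebra.linearMap k (ResidueField (St σ))) hb).finrank_eq, Module.finrank_self, one_mul]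

end Tangent

end Groth.L14.LocHilb
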