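import Groth.Agent.L14.LocHilb.Basic
import Groth.Agent.L16.AffineBC.Local
import Groth.Agent.L19.OmegaSh.Conormal

/-! # Values of embedded deformations over dual numbers on local equations -/

set_option autoImplicit false
set_option linter.style.haveILetI false
set_option linter.unusedSectionVars false
set_option backward.isDefEq.respectTransparency.types false
set_option backward.isDefEq.respectTransparency false

universe u

open CategoryTheory CategoryTheory.Limits AlgebraicGeometry TopologicalSpace Opposite ArtFun ArtFun.Art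

namespace Groth.L14.LocHilb

open Groth.L14.DefLift
open Groth.L18.Frame (rs ro ro_ro ro_self)

variable {k : Type u} [Field k]

/-- The generator of the maximal ideal of the dual numbers. -/
def eps : dual k k := (DualNumber.eps : DualNumber k)

theorem fst_eps : (dual k k).res (eps (k := k)) = 0 := TrivSqZeroExt.fst_inr k (1 : k)

theorem maximalIdeal_dual : IsLocalRing.maximalIdeal (dual k k) = Ideal.span {eps} := by
  refine le_antisymm (fun a ha => ?_) (Ideal.span_le.mpr fun a ha => ?_)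
  · have ha0 : TrivSqZeroExt.fst (show DualNumber k from a) = 0 := ((dual k k).mem_maximalIdeal_iff a).mp ha
    refine Ideal.mem_span_singleton'.mpr ⟨(TrivSqZeroExt.inl (TrivSqZeroExt.snd (show DualNumber k from a)) : DualNumber k), ?_⟩
    refine TrivSqZeroExt.ext ?_ ?_
    · show TrivSqZeroExt.fst ((TrivSqZeroExt.inl _ : DualNumber k) * DualNumber.eps) = _
      rw [TrivSqZeroExt.fst_mul, DualNumber.fst_eps, mul_zero, ha0]
    · show TrivSqZeroExt.snd ((TrivSqZeroExt.inl _ : DualNumber k) * DualNumber.eps) = _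
      rw [TrivSqZeroExt.snd_mul]
      simp
  · obtain rfl : a = eps := ha
    exact ((dual k k).mem_maximalIdeal_iff _).mpr fst_eps

theorem eps_not_mem : (eps : dual k k) ∉ (⊥ : Ideal (dual k k)) := fun he => one_ne_zero (α := k)
  (congrArg TrivSqZeroExt.snd (Ideal.mem_bot.mp he : (DualNumber.eps : DualNumber k) = 0))

theorem mul_eps (b : dual k k) (hb : b ∈ IsLocalRing.maximalIdeal (dual k k)) : b * eps ∈ (⊥ : Ideal (dual k k)) := by
  rw [Ideal.mem_bot]
  rw [maximalIdeal_dual, Ideal.mem_span_singleton'] at hb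
  obtain ⟨c, rfl⟩ := hb
  rw [mul_assoc, show (eps : dual k k) * eps = 0 from DualNumber.eps_mul_eps, mul_zero]

section DefSch

variable {Y : Scheme.{u}} {y : Y ⟶ specPt k} {A : Art k k} (ξ : DefSch Y y A)

theorem appLE_baseS_comp {T : Scheme.{u}} (J : ξ.total ⟶ T) (q : T ⟶ spec A) (hJ : J ≫ q = ξ.f) {V : T.Opens}
    {W : ξ.total.Opens} (h : W ≤ J ⁻¹ᵁ V) (a : A) :
    J.appLE V W h (((Scheme.ΓSpecIso (CommRingCat.of A)).inv ≫ q.appLE ⊤ V le_top) a) = baseS ξ W a := by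
  have h1 : q.appLE ⊤ V le_top ≫ J.appLE V W h = (J ≫ q).appLE ⊤ W le_top :=
    Scheme.Hom.appLE_comp_appLE _ _ _ _ _ _ _
  exact (ConcreteCategory.congr_hom h1 _).trans (appLE_congr_hom hJ _ le_top _)

theorem appLE_baseS_map {B : Art k k} {μ : A ⟶ B} {ξ' : DefSch Y y B} {c : ξ'.total ⟶ ξ.total}
    (hc : c ≫ ξ.f = ξ'.f ≫ specMap μ) {V : ξ.total.Opens} {V' : ξ'.total.Opens} (h : V' ≤ c ⁻¹ᵁ V) (a : A) :
    c.appLE V V' h (baseS ξ V a) = baseS ξ' V' (μ a) := by
  have h1 : ξ.f.appLE ⊤ V le_top ≫ c.appLE V V' h = (c ≫ ξ.f).appLE ⊤ V' le_top :=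
    Scheme.Hom.appLE_comp_appLE _ _ _ _ _ _ _
  have h2 : (specMap μ).appLE ⊤ ⊤ le_top ≫ ξ'.f.appLE ⊤ V' le_top = (ξ'.f ≫ specMap μ).appLE ⊤ V' le_top :=
    Scheme.Hom.appLE_comp_appLE _ _ _ _ _ _ _
  refine (ConcreteCategory.congr_hom h1 _).trans ((appLE_congr_hom hc _ le_top _).trans ?_)
  refine (ConcreteCategory.congr_hom h2 _).symm.trans (congrArg (ξ'.f.appLE ⊤ V' le_top) ?_)
  exact (Scheme.Hom.appLE_eq_app (specMap μ) (U := ⊤)).symm ▸
    (ConcreteCategory.congr_hom (Scheme.ΓSpecIso_inv_naturality (CommRingCat.ofHom μ.toAlgHom.toRingHom)) a).symm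

end DefSch

section Dual

variable {Y : Scheme.{u}} {y : Y ⟶ specPt k} (ξ : DefSch Y y (dual k k)) {V : ξ.total.Opens} (hV : IsAffineOpen V)
  {W : Y.Opens} (hW : IsAffineOpen W) (e : ξ.i ⁻¹ᵁ V = W)

include hV hW in
theorem exists_eq_eps_mul (z : Γ(ξ.total, V)) (hz : ξ.i.appLE V W e.ge z = 0) : ∃ r, z = baseS ξ V eps * r := by
  have h := ((chart ξ hV hW e).2.2 z).mp hz
  rw [maximalIdeal_dual, Ideal.map_span, Set.image_singleton] at h
  obtain ⟨r, rfl⟩ := Ideal.mem_span_singleton'.mp h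
  exact ⟨r, mul_comm _ _⟩

include hV hW in
theorem eps_mul_eq_zero_iff (r : Γ(ξ.total, V)) : baseS ξ V eps * r = 0 ↔ ξ.i.appLE V W e.ge r = 0 := by
  obtain ⟨hfl, -, hker⟩ := chart ξ hV hW e
  constructor
  · intro h
    exact (hker r).mpr (mem_map_of_mul_mem (baseS ξ V) hfl eps_not_mem mul_eps (by rw [Ideal.map_bot, Ideal.mem_bot]; exact h))
  · intro h
    obtain ⟨r', rfl⟩ := exists_eq_eps_mul ξ hV hW e r h
    rw [← mul_assoc, ← map_mul, show (eps : dual k k) * eps = 0 from DualNumber.eps_mul_eps, map_zero, zero_mul]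

end Dual

variable {X : Scheme.{u}} {x : X ⟶ specPt k} {I₀ : X.IdealSheafData}

section Chart

variable {A : Art k k} (I : (localHilb X x I₀).obj A)

/-- The morphism to `X` of an embedded deformation. -/
noncomputable abbrev gOf : (objectOf I).total ⟶ X := ι' I ≫ pullback.fst x (specOver A)

theorem i_gOf : (objectOf I).i ≫ gOf I = I₀.subschemeι := by
  rw [← Category.assoc, objectOf_i_compat, Category.assoc, XAincl_fst, Category.comp_id]

theorem preimage_gOf (U : X.Opens) : (objectOf I).i ⁻¹ᵁ (gOf I ⁻¹ᵁ U) = I₀.subschemeι ⁻¹ᵁ U := by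
  rw [← Scheme.Hom.comp_preimage, i_gOf]

theorem isAffine_gOf (U : X.affineOpens) : IsAffineOpen (gOf I ⁻¹ᵁ U.1) :=
  isAffineOpen_of_preimage _ (by rw [preimage_gOf]; exact U.2.preimage I₀.subschemeι)

/-- Reduction to the closed fibre. -/
noncomputable abbrev red (U : X.Opens) : Γ((objectOf I).total, gOf I ⁻¹ᵁ U) →+* Γ(I₀.subscheme, I₀.subschemeι ⁻¹ᵁ U) :=
  ((objectOf I).i.appLE (gOf I ⁻¹ᵁ U) (I₀.subschemeι ⁻¹ᵁ U) (preimage_gOf I U).ge).hom

theorem red_gOf (U : X.Opens) (f : Γ(X, U)) : red I U ((gOf I).app U f) = I₀.subschemeι.app U f := by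
  have h1 : (gOf I).app U ≫ (objectOf I).i.appLE (gOf I ⁻¹ᵁ U) (I₀.subschemeι ⁻¹ᵁ U) (preimage_gOf I U).ge =
      ((objectOf I).i ≫ gOf I).appLE U (I₀.subschemeι ⁻¹ᵁ U) (preimage_gOf I U).ge := by
    rw [Scheme.Hom.app_eq_appLE, Scheme.Hom.appLE_comp_appLE]
  refine (ConcreteCategory.congr_hom h1 f).trans ((appLE_congr_hom (i_gOf I) _ le_rfl f).trans ?_)
  rw [← Scheme.Hom.app_eq_appLE]

theorem red_surjective (U : X.affineOpens) : Function.Surjective (red I U.1) :=
  (chart _ (isAffine_gOf I U) (U.2.preimage I₀.subschemeι) (preimage_gOf I U.1)).2.1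

end Chart

/-- The value of a first-order embedded deformation on a local equation. -/
def IsVal (I : (localHilb X x I₀).obj (dual k k)) (U : X.affineOpens) (f : Γ(X, U.1))
    (b : Γ(I₀.subscheme, I₀.subschemeι ⁻¹ᵁ U.1)) : Prop :=
  ∀ r, (gOf I).app U.1 f = baseS (objectOf I) (gOf I ⁻¹ᵁ U.1) eps * r → red I U.1 r = b

variable (I : (localHilb X x I₀).obj (dual k k)) (U : X.affineOpens) {f : Γ(X, U.1)}

theorem exists_repr (hf : I₀.subschemeι.app U.1 f = 0) :
    ∃ r, (gOf I).app U.1 f = baseS (objectOf I) (gOf I ⁻¹ᵁ U.1) eps * r :=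
  exists_eq_eps_mul _ (isAffine_gOf I U) (U.2.preimage I₀.subschemeι) (preimage_gOf I U.1) _
    ((red_gOf I U.1 f).trans hf)

theorem red_eq_of_repr {r r' : Γ((objectOf I).total, gOf I ⁻¹ᵁ U.1)}
    (h : baseS (objectOf I) (gOf I ⁻¹ᵁ U.1) eps * r = baseS (objectOf I) (gOf I ⁻¹ᵁ U.1) eps * r') :
    red I U.1 r = red I U.1 r' := by
  rw [← sub_eq_zero, ← map_sub]
  exact (eps_mul_eq_zero_iff _ (isAffine_gOf I U) (U.2.preimage I₀.subschemeι) (preimage_gOf I U.1) _).mp
    (by rw [mul_sub, h, sub_self])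

theorem eps_mul_eq_of_red {r r' : Γ((objectOf I).total, gOf I ⁻¹ᵁ U.1)} (h : red I U.1 r = red I U.1 r') :
    baseS (objectOf I) (gOf I ⁻¹ᵁ U.1) eps * r = baseS (objectOf I) (gOf I ⁻¹ᵁ U.1) eps * r' := by
  rw [← sub_eq_zero, ← mul_sub]
  exact (eps_mul_eq_zero_iff _ (isAffine_gOf I U) (U.2.preimage I₀.subschemeι) (preimage_gOf I U.1) _).mpr
    ((map_sub (red I U.1) r r').trans (sub_eq_zero.mpr h))

theorem isVal_of_repr {r : Γ((objectOf I).total, gOf I ⁻¹ᵁ U.1)}
    (h : (gOf I).app U.1 f = baseS (objectOf I) (gOf I ⁻¹ᵁ U.1) eps * r) : IsVal I U f (red I U.1 r) :=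
  fun _ hr => red_eq_of_repr I U (hr.symm.trans h)

theorem ideal_mem_app_zero (U : X.Opens) (s : Γ(ClSub.idealMod I₀, U)) :
    I₀.subschemeι.app U (OmegaSh.idealSect I₀ U s) = 0 :=
  congr($(kernel.condition (ClSub.toSubscheme I₀)).app U s)

/-- The homomorphism of a first-order embedded deformation. -/
theorem exists_psi : ∃ Φ : ClSub.idealMod I₀ ⟶ ClSub.quotMod I₀, ∀ (U : X.affineOpens) (s : Γ(ClSub.idealMod I₀, U.1)),
    IsVal I U (OmegaSh.idealSect I₀ U.1 s) (show Γ(I₀.subscheme, I₀.subschemeι ⁻¹ᵁ U.1) from Φ.app U.1 s) := by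
  classical
  choose r hr using fun (U : X.affineOpens) (s : Γ(ClSub.idealMod I₀, U.1)) =>
    exists_repr I U (ideal_mem_app_zero U.1 s)
  let φ : ∀ U : X.Opens, IsAffineOpen U → (Γ(ClSub.idealMod I₀, U) →+ Γ(ClSub.quotMod I₀, U)) := fun U hU =>
    AddMonoidHom.mk' (fun s => (red I U (r ⟨U, hU⟩ s) : Γ(I₀.subscheme, I₀.subschemeι ⁻¹ᵁ U))) fun s t => by
      show red I U (r ⟨U, hU⟩ (s + t)) = red I U (r ⟨U, hU⟩ s) + red I U (r ⟨U, hU⟩ t)
      rw [← map_add]
      refine red_eq_of_repr I ⟨U, hU⟩ ?_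
      rw [mul_add, ← hr, ← hr, ← hr, map_add, map_add]
  refine Exists.elim (Groth.L16.AffineBC.exists_hom_affine φ ?_ ?_) fun Φ hΦ => ?_
  rotate_left 2
  · refine ⟨Φ, fun U s => ?_⟩
    rw [hΦ U.1 U.2]
    exact isVal_of_repr I U (hr U s)
  · intro U V hU hV h s
    let ρ := (objectOf I).total.presheaf.map (homOfLE (Scheme.Hom.preimage_mono (gOf I) h)).op
    show red I V (r ⟨V, hV⟩ ((ClSub.idealMod I₀).presheaf.map (homOfLE h).op s)) =
      ro (Scheme.Hom.preimage_mono I₀.subschemeι h) (red I U (r ⟨U, hU⟩ s))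
    have h1 : ∀ z, red I V (ρ z) = ro (Scheme.Hom.preimage_mono I₀.subschemeι h) (red I U z) := fun z =>
      (ConcreteCategory.congr_hom (Scheme.Hom.map_appLE (objectOf I).i (preimage_gOf I V).ge _) z).trans
        (ConcreteCategory.congr_hom (Scheme.Hom.appLE_map (objectOf I).i (preimage_gOf I U).ge
          (homOfLE (Scheme.Hom.preimage_mono I₀.subschemeι h)).op) z).symm
    rw [← h1]
    refine red_eq_of_repr I ⟨V, hV⟩ ?_
    rw [← hr ⟨V, hV⟩]
    have h2 : OmegaSh.idealSect I₀ V ((ClSub.idealMod I₀).presheaf.map (homOfLE h).op s) =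
        ro h (OmegaSh.idealSect I₀ U s) :=
      congr($((Scheme.Modules.Hom.mapPresheaf (ClSub.idealModι I₀)).naturality (homOfLE h).op) s)
    rw [h2]
    refine (ConcreteCategory.congr_hom ((gOf I).naturality (homOfLE h).op) _).trans ?_
    show ρ ((gOf I).app U (OmegaSh.idealSect I₀ U s)) = _
    rw [hr ⟨U, hU⟩ s, map_mul]
    exact congrArg (· * _) (ro_baseS _ _ _)
  · intro U hU a s
    show red I U (r ⟨U, hU⟩ (a • s)) = I₀.subschemeι.app U a * red I U (r ⟨U, hU⟩ s)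
    rw [← red_gOf I U a, ← map_mul]
    refine red_eq_of_repr I ⟨U, hU⟩ ?_
    rw [← hr ⟨U, hU⟩, show OmegaSh.idealSect I₀ U (a • s) = a * OmegaSh.idealSect I₀ U s from
      Scheme.Modules.Hom.app_smul (ClSub.idealModι I₀) a s, map_mul, hr ⟨U, hU⟩ s]
    ring

/-- The homomorphism `I₀ → O/I₀` of a first-order embedded deformation. -/
noncomputable def psi : ClSub.idealMod I₀ ⟶ ClSub.quotMod I₀ := (exists_psi I).choose

theorem psi_spec (s : Γ(ClSub.idealMod I₀, U.1)) :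
    IsVal I U (OmegaSh.idealSect I₀ U.1 s) (show Γ(I₀.subscheme, I₀.subschemeι ⁻¹ᵁ U.1) from (psi I).app U.1 s) :=
  (exists_psi I).choose_spec U s

theorem exists_sect (hf : I₀.subschemeι.app U.1 f = 0) :
    ∃ s : Γ(ClSub.idealMod I₀, U.1), OmegaSh.idealSect I₀ U.1 s = f := by
  exact ⟨_root_.OmegaSh.kerLift (ClSub.toSubscheme I₀) U.1 (OmegaSh.strSect X U.1 f)
      ((_root_.OmegaSh.toSubscheme_app_strSect U.1 I₀ f).trans hf),
    congrArg (OmegaSh.fnSect X U.1) (_root_.OmegaSh.ι_kerLift (ClSub.toSubscheme I₀) U.1 _ _)⟩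

/-- Over an affine, `a + ε b` vanishes on the embedded deformation iff `ψ(a) + b = 0`. -/
theorem app_add_eps_eq_zero_iff (a b : Γ(X, U.1)) :
    (gOf I).app U.1 a + baseS (objectOf I) (gOf I ⁻¹ᵁ U.1) eps * (gOf I).app U.1 b = 0 ↔
      ∃ s : Γ(ClSub.idealMod I₀, U.1), OmegaSh.idealSect I₀ U.1 s = a ∧
        (show Γ(I₀.subscheme, I₀.subschemeι ⁻¹ᵁ U.1) from (psi I).app U.1 s) + I₀.subschemeι.app U.1 b = 0 := by
  constructor
  · intro h
    have ha : I₀.subschemeι.app U.1 a = 0 := by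
      have h1 := congrArg (red I U.1) h
      rw [map_zero, map_add, map_mul, red_gOf] at h1
      have h2 : red I U.1 (baseS (objectOf I) (gOf I ⁻¹ᵁ U.1) eps) = 0 := by
        show (objectOf I).i.appLE _ _ _ _ = 0
        rw [appLE_baseS, fst_eps, map_zero, map_zero]
      rwa [h2, zero_mul, add_zero] at h1
    obtain ⟨s, hs⟩ := exists_sect U ha
    refine ⟨s, hs, ?_⟩
    subst hs
    have hb : IsVal I U (OmegaSh.idealSect I₀ U.1 s) (-(red I U.1 ((gOf I).app U.1 b))) := by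
      rw [← map_neg]
      refine isVal_of_repr I U ?_
      rw [mul_neg, eq_neg_iff_add_eq_zero]
      exact h
    obtain ⟨r, hr⟩ := exists_repr I U ha
    rw [← psi_spec I U s r hr, hb r hr, red_gOf, neg_add_cancel]
  · rintro ⟨s, rfl, h⟩
    obtain ⟨r, hr⟩ := exists_repr I U (ideal_mem_app_zero U.1 s)
    rw [hr, ← mul_add]
    refine (eps_mul_eq_of_red I U (r' := 0) ?_).trans (mul_zero _)
    rw [map_zero, map_add, red_gOf, psi_spec I U s r hr]
    exact h

end Groth.L14.LocHilb
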